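import Mathlib
import Cfsg.Prelude.Def_Solvable
import Cfsg.Agent.Lib.Lead.Cores
import Cfsg.Agent.Lib.Helper22.CoprimeP
import Cfsg.Agent.Lib.Helper22.Generation
import Cfsg.Agent.Lib.Helper55.Involutions

set_option autoImplicit false
set_option linter.style.haveILetI false

/-!
# Classes of involutions whose pairwise products are `p`-elements (`p` odd)

Everything is deduced from the conclusion of Glauberman's `Z*`-theorem, taken as a hypothesis.
-/

namespace Cfsg.Agent.Lib.Helper55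

open Cfsg Subgroup Cfsg.Agent.Lib.Helper22

variable {G : Type*} [Group G]

/-- the orbit of `d` under conjugation by the subgroup `X` -/
def conjOrb (X : Subgroup G) (d : G) : Set G := {a | ∃ x ∈ X, a = x * d * x⁻¹}

theorem ncard_conjOrb (X : Subgroup G) (d : G) :
    (conjOrb X d).ncard = (centralizer {d}).relIndex X := by
  letI : MulAction X G := MulAction.compHom G ((MulAut.conj : G →* MulAut G).comp X.subtype)
  have hsm : ∀ (x : X) (g : G), x • g = (x : G) * g * (x : G)⁻¹ := fun x g => rfl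
  have h1 := MulAction.index_stabilizer X d
  have h2 : MulAction.stabilizer X d = (centralizer {d}).subgroupOf X := by
    ext x
    rw [MulAction.mem_stabilizer_iff, hsm, mem_subgroupOf, mem_centralizer_singleton_iff]
    constructor
    · intro h
      calc (x : G) * d = (x : G) * d * (x : G)⁻¹ * x := by group
        _ = d * x := by rw [h]
    · intro h
      rw [h]; group
  have h3 : MulAction.orbit X d = conjOrb X d := by
    ext a
    constructor
    · rintro ⟨x, rfl⟩
      exact ⟨x, x.2, rfl⟩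
    · rintro ⟨x, hx, rfl⟩
      exact ⟨⟨x, hx⟩, rfl⟩
  rw [← h3, ← h1, h2]
  rfl

theorem conjOrb_mono {X Y : Subgroup G} (h : X ≤ Y) (d : G) : conjOrb X d ⊆ conjOrb Y d := by
  rintro a ⟨x, hx, rfl⟩
  exact ⟨x, h hx, rfl⟩

/-- an involution `m * d` with `m` of odd order is conjugate to `d` by a power of `m` -/
theorem exists_pow_conj_of_odd {d m : G} (hd : d * d = 1) (hmd : (m * d) * (m * d) = 1)
    (hodd : Odd (orderOf m)) : ∃ k : ℕ, m ^ k * d * (m ^ k)⁻¹ = m * d := by
  obtain ⟨r, hr⟩ := hodd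
  have hinv : d * m * d = m⁻¹ := by
    have h1 : m * (d * m * d) = 1 := by
      calc m * (d * m * d) = (m * d) * (m * d) := by group
        _ = 1 := hmd
    exact eq_inv_of_mul_eq_one_right h1
  have hdinv : d⁻¹ = d := inv_eq_of_mul_eq_one_left hd
  have hpow : ∀ k : ℕ, d * m ^ k * d = (m ^ k)⁻¹ := by
    intro k
    induction k with
    | zero => simp [hd]
    | succ k ih =>
      calc d * m ^ (k + 1) * d = (d * m ^ k * d) * (d * m * d) := by
            rw [pow_succ]
            calc d * (m ^ k * m) * d = d * m ^ k * (1 : G) * m * d := by group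
              _ = d * m ^ k * (d * d) * m * d := by rw [hd]
              _ = (d * m ^ k * d) * (d * m * d) := by group
        _ = (m ^ k)⁻¹ * m⁻¹ := by rw [ih, hinv]
        _ = (m ^ (k + 1))⁻¹ := by
            rw [pow_succ', mul_inv_rev]
  refine ⟨r + 1, ?_⟩
  have h2 : m ^ (r + 1) * m ^ (r + 1) = m := by
    rw [← pow_add]
    have : r + 1 + (r + 1) = orderOf m + 1 := by omega
    rw [this, pow_add, pow_orderOf_eq_one, one_mul, pow_one]
  have h3 : d * (m ^ (r + 1))⁻¹ = m ^ (r + 1) * d := by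
    have := hpow (r + 1)
    calc d * (m ^ (r + 1))⁻¹ = d * (d * m ^ (r + 1) * d) := by rw [this]
      _ = (d * d) * m ^ (r + 1) * d := by group
      _ = m ^ (r + 1) * d := by rw [hd, one_mul]
  calc m ^ (r + 1) * d * (m ^ (r + 1))⁻¹ = m ^ (r + 1) * (d * (m ^ (r + 1))⁻¹) := by group
    _ = m ^ (r + 1) * (m ^ (r + 1) * d) := by rw [h3]
    _ = (m ^ (r + 1) * m ^ (r + 1)) * d := by group
    _ = m * d := by rw [h2]

/-- The core argument: if `d` is central modulo the odd order normal subgroup `N` and all products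
of two conjugates of `d` are `p`-elements, then all conjugates of `d` are conjugate under a
`d`-invariant `p`-subgroup. -/
theorem exists_pSubgroup_of_odd_normal [Finite G] {p : ℕ} (hp : p.Prime) (d : G)
    (hd : orderOf d = 2)
    (hprod : ∀ a ∈ conjugatesOf d, ∀ b ∈ conjugatesOf d, ∃ k : ℕ, orderOf (a * b) = p ^ k)
    (N : Subgroup G) (hN : N.Normal) (hNodd : Odd (Nat.card N))
    (hcen : ∀ g : G, d * g * d⁻¹ * g⁻¹ ∈ N) :
    ∃ P : Subgroup G, IsPGroup p P ∧ (∀ x ∈ P, d * x * d⁻¹ ∈ P) ∧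
      ∀ a ∈ conjugatesOf d, ∃ x ∈ P, a = x * d * x⁻¹ := by
  haveI : Fact p.Prime := ⟨hp⟩
  haveI : Fact (2 : ℕ).Prime := ⟨Nat.prime_two⟩
  have hdd : d * d = 1 := mul_self_of_orderOf_two hd
  have hdinv : d⁻¹ = d := inv_eq_self_of_orderOf_two hd
  have hA : IsPGroup 2 (zpowers d) := by
    apply IsPGroup.of_card (n := 1)
    rw [Nat.card_zpowers, hd, pow_one]
  have hN2 : ¬ 2 ∣ Nat.card N := by
    intro h
    exact (Nat.not_even_iff_odd.2 hNodd) (even_iff_two_dvd.2 h)
  have hAN : zpowers d ≤ normalizer (N : Set G) := by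
    rw [normalizer_eq_top_iff.2 hN]; exact le_top
  -- conjugates of `d` are conjugate under `N`
  have hconjN : ∀ a ∈ conjugatesOf d, a ∈ conjOrb N d := by
    intro a ha
    obtain ⟨g, rfl⟩ := isConj_iff.1 ha
    obtain ⟨m, hm⟩ : ∃ m : G, m = g * d * g⁻¹ * d := ⟨_, rfl⟩
    have hmN : m ∈ N := by
      have h1 := N.inv_mem (hcen g)
      have h2 : (d * g * d⁻¹ * g⁻¹)⁻¹ = m := by rw [hm, hdinv]; group; rw [zpow_neg_one, hdinv]
      rwa [h2] at h1
    have hmd : m * d = g * d * g⁻¹ := by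
      rw [hm, mul_assoc, hdd, mul_one]
    have hmd2 : (m * d) * (m * d) = 1 := by
      rw [hmd]
      calc g * d * g⁻¹ * (g * d * g⁻¹) = g * (d * d) * g⁻¹ := by group
        _ = 1 := by rw [hdd]; group
    have hmodd : Odd (orderOf m) := by
      have h1 : orderOf m ∣ Nat.card N := by
        have := orderOf_dvd_natCard (⟨m, hmN⟩ : N)
        rwa [Subgroup.orderOf_mk] at this
      exact Odd.of_dvd_nat hNodd h1
    obtain ⟨k, hk⟩ := exists_pow_conj_of_odd hdd hmd2 hmodd
    exact ⟨m ^ k, N.pow_mem hmN k, by rw [hk, hmd]⟩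
  -- invariant subgroups of `N` whose order is prime to `p` are centralized by `d`
  have hcent : ∀ (q : ℕ), q.Prime → q ≠ p → ∀ Q : Subgroup G, IsPGroup q Q →
      zpowers d ≤ normalizer (Q : Set G) → Q ≤ centralizer {d} := by
    intro q hq hqp Q hQ hdQ x hx
    rw [mem_centralizer_singleton_iff]
    have h1 : d * x * d⁻¹ ∈ Q :=
      (mem_normalizer_iff.1 (hdQ (mem_zpowers d)) x).1 hx
    have h2 : x * d * x⁻¹ * d ∈ Q := by
      have : x * d * x⁻¹ * d = x * (d * x * d⁻¹)⁻¹ := by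
        rw [hdinv]; simp only [mul_inv_rev, hdinv]; group
      rw [this]
      exact Q.mul_mem hx (Q.inv_mem h1)
    obtain ⟨k, hk⟩ := hprod (x * d * x⁻¹) (isConj_iff.2 ⟨x, rfl⟩) d
      (mem_conjugatesOf_self)
    haveI : Fact q.Prime := ⟨hq⟩
    obtain ⟨j, hj⟩ := (IsPGroup.iff_orderOf.1 hQ) ⟨_, h2⟩
    rw [Subgroup.orderOf_mk, hk] at hj
    have h3 : orderOf (x * d * x⁻¹ * d) = 1 := by
      rw [hk]
      rcases Nat.eq_zero_or_pos k with rfl | hkpos
      · simp
      · exfalso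
        have h4 : p ∣ q ^ j := by rw [← hj]; exact dvd_pow_self p hkpos.ne'
        have h5 := (Nat.prime_dvd_prime_iff_eq hp hq).1 (hp.dvd_of_dvd_pow h4)
        exact hqp h5.symm
    rw [orderOf_eq_one_iff] at h3
    calc x * d = (x * d * x⁻¹ * d) * (d * x) := by
          calc x * d = x * d * x⁻¹ * (1 : G) * x := by group
            _ = x * d * x⁻¹ * (d * d) * x := by rw [hdd]
            _ = (x * d * x⁻¹ * d) * (d * x) := by group
      _ = d * x := by rw [h3, one_mul]
  obtain ⟨P, hP, hdP⟩ := exists_invariant_isSylowIn (zpowers d) N hA hN2 hAN p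
  -- the class size is a power of `p`
  have hn : ∀ q : ℕ, q.Prime → q ∣ (centralizer {d}).relIndex N → q = p := by
    intro q hq hdvd
    by_contra hqp
    haveI : Fact q.Prime := ⟨hq⟩
    obtain ⟨Q, hQ, hdQ⟩ := exists_invariant_isSylowIn (zpowers d) N hA hN2 hAN q
    apply hQ.not_dvd_relIndex
    have h1 : Q.relIndex N = Q.relIndex (centralizer {d} ⊓ N) * (centralizer {d} ⊓ N).relIndex N :=
      (relIndex_mul_relIndex Q (centralizer {d} ⊓ N) N
        (le_inf (hcent q hq hqp Q hQ.isPGroup hdQ) hQ.le) inf_le_right).symm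
    rw [h1, inf_relIndex_right]
    exact Dvd.dvd.mul_left hdvd _
  have hn0 : (centralizer {d}).relIndex N ≠ 0 := by
    have : (centralizer {d}).relIndex N ∣ Nat.card N := relIndex_dvd_card _ _
    intro h0
    rw [h0, zero_dvd_iff] at this
    exact Nat.card_pos.ne' this
  have hcop : Nat.Coprime ((centralizer {d}).relIndex N) (P.relIndex N) := by
    rw [Nat.coprime_iff_gcd_eq_one, Nat.eq_one_iff_not_exists_prime_dvd]
    intro q hq hdvd
    have h1 := hn q hq (hdvd.trans (Nat.gcd_dvd_left _ _))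
    subst h1
    exact hP.not_dvd_relIndex (hdvd.trans (Nat.gcd_dvd_right _ _))
  have hdvd : (centralizer {d}).relIndex N ∣ (centralizer {d}).relIndex P := by
    have e1 : (centralizer {d} ⊓ P).relIndex P * P.relIndex N = (centralizer {d} ⊓ P).relIndex N :=
      relIndex_mul_relIndex _ _ _ inf_le_right hP.le
    have e2 : (centralizer {d} ⊓ P).relIndex (centralizer {d} ⊓ N) *
        (centralizer {d} ⊓ N).relIndex N = (centralizer {d} ⊓ P).relIndex N :=
      relIndex_mul_relIndex _ _ _ (inf_le_inf_left _ hP.le) inf_le_right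
    rw [inf_relIndex_right] at e1 e2
    have h3 : (centralizer {d}).relIndex N ∣ (centralizer {d}).relIndex P * P.relIndex N := by
      rw [e1, ← e2]; exact Dvd.intro_left _ rfl
    exact hcop.dvd_of_dvd_mul_right h3
  have hPne : (centralizer {d}).relIndex P ≠ 0 := by
    have : (centralizer {d}).relIndex P ∣ Nat.card P := relIndex_dvd_card _ _
    intro h0
    rw [h0, zero_dvd_iff] at this
    exact Nat.card_pos.ne' this
  have heq : conjOrb P d = conjOrb N d := by
    apply Set.eq_of_subset_of_ncard_le (conjOrb_mono hP.le d) _ (Set.toFinite _)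
    rw [ncard_conjOrb, ncard_conjOrb]
    exact Nat.le_of_dvd (Nat.pos_of_ne_zero hPne) hdvd
  refine ⟨P, hP.isPGroup, ?_, ?_⟩
  · intro x hx
    exact (mem_normalizer_iff.1 (hdP (mem_zpowers d)) x).1 hx
  · intro a ha
    have := hconjN a ha
    rw [← heq] at this
    exact this

/-- The statement of Glauberman's `Z*`-theorem for the group `G`. -/
def ZStarHyp (G : Type*) [Group G] : Prop :=
  ∀ (P : Sylow 2 G) (u : G), orderOf u = 2 → u ∈ P →
    (∀ g : G, g * u * g⁻¹ ∈ P → g * u * g⁻¹ = u) →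
    ∃ N : Subgroup G, N.Normal ∧ Odd (Nat.card N) ∧ ∀ g : G, (u * g * u⁻¹ * g⁻¹) ∈ N

/-- `S5560` from the `Z*`-theorem -/
theorem mul_mem_pCore_of_zstar [Finite G] (hZ : ZStarHyp G) {p : ℕ} (hp : p.Prime) (hp2 : p ≠ 2)
    (d : G) (hd : orderOf d = 2)
    (hprod : ∀ a ∈ conjugatesOf d, ∀ b ∈ conjugatesOf d, ∃ k : ℕ, orderOf (a * b) = p ^ k) :
    ∀ a ∈ conjugatesOf d, ∀ b ∈ conjugatesOf d, a * b ∈ Cfsg.pCore p G := by
  haveI : Fact (2 : ℕ).Prime := ⟨Nat.prime_two⟩
  have hdd : d * d = 1 := mul_self_of_orderOf_two hd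
  have hdinv : d⁻¹ = d := inv_eq_self_of_orderOf_two hd
  have hA : IsPGroup 2 (zpowers d) := by
    apply IsPGroup.of_card (n := 1)
    rw [Nat.card_zpowers, hd, pow_one]
  obtain ⟨S, hS⟩ := hA.exists_le_sylow
  have hdS : d ∈ S := hS (mem_zpowers d)
  have hiso : ∀ g : G, g * d * g⁻¹ ∈ S → g * d * g⁻¹ = d := by
    intro g hg
    obtain ⟨k, hk⟩ := hprod (g * d * g⁻¹) (isConj_iff.2 ⟨g, rfl⟩) d mem_conjugatesOf_self
    obtain ⟨j, hj⟩ := (IsPGroup.iff_orderOf.1 S.isPGroup') ⟨_, S.mul_mem hg hdS⟩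
    rw [Subgroup.orderOf_mk, hk] at hj
    have h3 : orderOf (g * d * g⁻¹ * d) = 1 := by
      rw [hk]
      rcases Nat.eq_zero_or_pos k with rfl | hkpos
      · simp
      · exfalso
        have h4 : p ∣ 2 ^ j := by rw [← hj]; exact dvd_pow_self p hkpos.ne'
        have h5 := (Nat.prime_dvd_prime_iff_eq hp Nat.prime_two).1 (hp.dvd_of_dvd_pow h4)
        exact hp2 h5
    rw [orderOf_eq_one_iff] at h3
    calc g * d * g⁻¹ = g * d * g⁻¹ * (d * d) := by rw [hdd, mul_one]
      _ = (g * d * g⁻¹ * d) * d := by group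
      _ = d := by rw [h3, one_mul]
  obtain ⟨N, hN, hNodd, hcen⟩ := hZ S d hd hdS hiso
  obtain ⟨P, hP, hdP, hall⟩ := exists_pSubgroup_of_odd_normal hp d hd hprod N hN hNodd hcen
  have hmem : ∀ a ∈ conjugatesOf d, ∀ b ∈ conjugatesOf d, a * b ∈ P := by
    intro a ha b hb
    obtain ⟨x, hx, rfl⟩ := hall a ha
    obtain ⟨y, hy, rfl⟩ := hall b hb
    have h1 : d * (x⁻¹ * y) * d⁻¹ ∈ P := hdP _ (P.mul_mem (P.inv_mem hx) hy)
    have h2 : x * d * x⁻¹ * (y * d * y⁻¹) = x * (d * (x⁻¹ * y) * d⁻¹) * y⁻¹ := by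
      rw [hdinv]; group
    rw [h2]
    exact P.mul_mem (P.mul_mem hx h1) (P.inv_mem hy)
  have hW : normalClosure {c | ∃ a ∈ conjugatesOf d, ∃ b ∈ conjugatesOf d, c = a * b} ≤ P := by
    unfold normalClosure
    rw [closure_le]
    intro x hx
    obtain ⟨c, ⟨a, ha, b, hb, rfl⟩, hcx⟩ := Group.mem_conjugatesOfSet_iff.1 hx
    obtain ⟨g, rfl⟩ := isConj_iff.1 hcx
    have h2 : g * (a * b) * g⁻¹ = (g * a * g⁻¹) * (g * b * g⁻¹) := by group
    rw [h2]
    exact hmem _ (IsConj.trans ha (isConj_iff.2 ⟨g, rfl⟩)) _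
      (IsConj.trans hb (isConj_iff.2 ⟨g, rfl⟩))
  intro a ha b hb
  exact Cfsg.Agent.Lib.Lead.le_pCore normalClosure_normal (hP.to_le hW)
    (subset_normalClosure ⟨a, ha, b, hb, rfl⟩)

/-- `S1618` from the `Z*`-theorem -/
theorem isNilpotent_commutator_of_zstar [Finite G] (hZ : ZStarHyp G) (p : ℕ) (hp : p.Prime)
    (hodd : p ≠ 2) {D : Set G} (hinv : ∀ d ∈ D, orderOf d = 2)
    (hconj : ∃ d ∈ D, D = conjugatesOf d) (hgen : Subgroup.closure D = ⊤)
    (hprod : ∀ x ∈ D, ∀ y ∈ D, x ≠ y → ∃ k : ℕ, orderOf (x * y) = p ^ k) :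
    Group.IsNilpotent ↥(commutator G) := by
  haveI : Fact p.Prime := ⟨hp⟩
  obtain ⟨d, hdD, rfl⟩ := hconj
  have hd := hinv d hdD
  have hdd : d * d = 1 := mul_self_of_orderOf_two hd
  have hprod' : ∀ a ∈ conjugatesOf d, ∀ b ∈ conjugatesOf d, ∃ k : ℕ, orderOf (a * b) = p ^ k := by
    intro a ha b hb
    by_cases hab : a = b
    · subst hab
      refine ⟨0, ?_⟩
      rw [mul_self_of_orderOf_two (hinv a ha)]; simp
    · exact hprod a ha b hb hab
  have hcore := mul_mem_pCore_of_zstar hZ hp hodd d hd hprod'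
  haveI hnorm : (pCore p G).Normal := Cfsg.Agent.Lib.Lead.pCore_normal' p G
  -- every element is a power of `d` modulo `O_p(G)`
  have hall : ∀ g : G, ∃ i : ℤ, (QuotientGroup.mk' (pCore p G)) g =
      (QuotientGroup.mk' (pCore p G) d) ^ i := by
    intro g
    have hg : g ∈ Subgroup.closure (conjugatesOf d) := by rw [hgen]; trivial
    induction hg using Subgroup.closure_induction with
    | mem x hx =>
      refine ⟨1, ?_⟩
      rw [zpow_one]
      have h1 := hcore x hx d hdD
      have h2 : (QuotientGroup.mk' (pCore p G)) (x * d) = 1 := by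
        rw [QuotientGroup.mk'_apply, QuotientGroup.eq_one_iff]; exact h1
      have h3 : (QuotientGroup.mk' (pCore p G)) (d * d) = 1 := by rw [hdd, map_one]
      rw [map_mul] at h2 h3
      exact mul_right_cancel (h2.trans h3.symm)
    | one => exact ⟨0, by simp⟩
    | mul x y _ _ hx hy =>
      obtain ⟨i, hi⟩ := hx
      obtain ⟨j, hj⟩ := hy
      exact ⟨i + j, by rw [map_mul, hi, hj, zpow_add]⟩
    | inv x _ hx =>
      obtain ⟨i, hi⟩ := hx
      exact ⟨-i, by rw [map_inv, hi, zpow_neg]⟩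
  have hle : commutator G ≤ pCore p G := by
    rw [commutator_def, Subgroup.commutator_le]
    intro g _ h _
    rw [← QuotientGroup.eq_one_iff, ← QuotientGroup.mk'_apply, map_commutatorElement]
    obtain ⟨i, hi⟩ := hall g
    obtain ⟨j, hj⟩ := hall h
    rw [hi, hj, commutatorElement_eq_one_iff_commute]
    exact (Commute.refl _).zpow_zpow i j
  exact ((Cfsg.Agent.Lib.Lead.pCore_isPGroup p G).to_le hle).isNilpotent

end Cfsg.Agent.Lib.Helper55
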