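import Mathlib
import Cfsg.Prelude.Def_Solvable
import Cfsg.Agent.Lib.Lead.Cores
import Cfsg.Agent.Lib.Helper55.Involutions
import Cfsg.Agent.Lib.Helper55.OddTransp

set_option autoImplicit false
set_option linter.style.haveILetI false

/-!
# Groups with abelian Sylow `2`-subgroups, trivial centre and trivial core

From the conclusion of the `Z*`-theorem (as a hypothesis): such a group has no nontrivial abelian
`2`-quotient.
-/

namespace Cfsg.Agent.Lib.Helper55

open Cfsg Subgroup
open scoped IsMulCommutative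

variable {Γ : Type*} [Group Γ]

/-- An isolated involution is central when `O(Γ) = 1`. -/
theorem mem_center_of_isolated [Finite Γ] (hZS : ZStarHyp Γ) (hcore : pPrimeCore 2 Γ = ⊥)
    (S : Sylow 2 Γ) (u : Γ) (hu : orderOf u = 2) (huS : u ∈ S)
    (hiso : ∀ g : Γ, g * u * g⁻¹ ∈ S → g * u * g⁻¹ = u) : u ∈ center Γ := by
  obtain ⟨N, hN, hodd, hc⟩ := hZS S u hu huS hiso
  have hle : N ≤ pPrimeCore 2 Γ :=
    Cfsg.Agent.Lib.Lead.le_pPrimeCore hN (Nat.coprime_two_right.2 hodd)
  rw [hcore] at hle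
  rw [mem_center_iff]
  intro g
  have h1 := hle (hc g)
  rw [mem_bot] at h1
  calc g * u = (u * g * u⁻¹ * g⁻¹)⁻¹ * (u * g) := by group
    _ = u * g := by rw [h1]; simp

/-- the product of the `N(S)`-conjugates of an element of the abelian Sylow subgroup `S` -/
theorem exists_norm_element [Finite Γ] (S : Sylow 2 Γ) (hab : IsMulCommutative (S : Subgroup Γ))
    (a : Γ) (ha : a ∈ S) :
    ∃ (y : Γ) (m : ℕ), y ∈ S ∧ Odd m ∧ (∀ n ∈ normalizer (S : Set Γ), n * y * n⁻¹ = y) ∧
      Abelianization.of y = (Abelianization.of a) ^ m := by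
  classical
  haveI : Fact (2 : ℕ).Prime := ⟨Nat.prime_two⟩
  set N : Subgroup Γ := normalizer (S : Set Γ) with hNdef
  haveI : Fintype N := Fintype.ofFinite N
  have hmem : ∀ (n : Γ), n ∈ N → ∀ x ∈ (S : Subgroup Γ), n * x * n⁻¹ ∈ (S : Subgroup Γ) :=
    fun n hn x hx => (mem_normalizer_iff.1 hn x).1 hx
  -- conjugation by `n` as an endomorphism of `S`
  let c : N → (S : Subgroup Γ) →* (S : Subgroup Γ) := fun n =>
    { toFun := fun x => ⟨n * x * (n : Γ)⁻¹, hmem n n.2 x x.2⟩
      map_one' := by ext; simp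
      map_mul' := by intro x y; ext; simp }
  have hc : ∀ (n : N) (x : (S : Subgroup Γ)), ((c n x : (S : Subgroup Γ)) : Γ) = n * x * (n : Γ)⁻¹ :=
    fun n x => rfl
  let a' : (S : Subgroup Γ) := ⟨a, ha⟩
  let O : Finset (S : Subgroup Γ) := Finset.univ.image (fun n : N => c n a')
  have hinj : ∀ n : N, Function.Injective (c n) := by
    intro n x y hxy
    have := congrArg Subtype.val hxy
    rw [hc, hc] at this
    ext
    simpa using this
  have himage : ∀ n : N, O.image (c n) = O := by
    intro n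
    ext x
    simp only [O, Finset.mem_image, Finset.mem_univ, true_and]
    constructor
    · rintro ⟨_, ⟨k, rfl⟩, rfl⟩
      refine ⟨n * k, ?_⟩
      ext
      simp only [hc, coe_mul, mul_inv_rev]
      group
    · rintro ⟨k, rfl⟩
      refine ⟨c (n⁻¹ * k) a', ⟨_, rfl⟩, ?_⟩
      ext
      simp only [hc, coe_mul, mul_inv_rev, InvMemClass.coe_inv]
      group
  refine ⟨((∏ o ∈ O, o : (S : Subgroup Γ)) : Γ), O.card, (∏ o ∈ O, o : (S : Subgroup Γ)).2, ?_, ?_, ?_⟩
  · -- the orbit has odd length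
    have h1 : O.card = (conjOrb N a).ncard := by
      have h2 : ((O.image Subtype.val : Finset Γ) : Set Γ) = conjOrb N a := by
        ext x
        simp only [O, Finset.coe_image, Set.mem_image, Finset.mem_coe, Finset.mem_image,
          Finset.mem_univ, true_and, conjOrb, Set.mem_setOf_eq]
        constructor
        · rintro ⟨_, ⟨n, rfl⟩, rfl⟩
          exact ⟨n, n.2, rfl⟩
        · rintro ⟨n, hn, rfl⟩
          exact ⟨_, ⟨⟨n, hn⟩, rfl⟩, rfl⟩
      rw [← h2, Set.ncard_coe_finset, Finset.card_image_of_injective _ Subtype.val_injective]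
    rw [h1, ncard_conjOrb]
    have hSN : (S : Subgroup Γ) ≤ N := le_normalizer
    have hSC : (S : Subgroup Γ) ≤ centralizer {a} := by
      intro x hx
      rw [mem_centralizer_singleton_iff]
      have := mul_comm (⟨x, hx⟩ : (S : Subgroup Γ)) a'
      exact congrArg Subtype.val this
    have h3 : (centralizer {a}).relIndex N ∣ (S : Subgroup Γ).relIndex N :=
      relIndex_dvd_of_le_left N hSC
    have h4 : (S : Subgroup Γ).relIndex N ∣ (S : Subgroup Γ).index :=
      ⟨N.index, (relIndex_mul_index hSN).symm⟩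
    have h5 : ¬ 2 ∣ (S : Subgroup Γ).index := S.not_dvd_index
    rw [← Nat.not_even_iff_odd, even_iff_two_dvd]
    intro h
    exact h5 (h.trans (h3.trans h4))
  · intro n hn
    have h1 : c ⟨n, hn⟩ (∏ o ∈ O, o) = ∏ o ∈ O, o := by
      rw [map_prod]
      conv_rhs => rw [← himage ⟨n, hn⟩]
      rw [Finset.prod_image (fun x _ y _ h => hinj _ h)]
    have := congrArg Subtype.val h1
    rwa [hc] at this
  · have h1 : (Abelianization.of.comp (S : Subgroup Γ).subtype) (∏ o ∈ O, o) =
        ∏ o ∈ O, (Abelianization.of.comp (S : Subgroup Γ).subtype) o := map_prod _ _ _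
    have h2 : ∀ o ∈ O, (Abelianization.of.comp (S : Subgroup Γ).subtype) o = Abelianization.of a := by
      intro o ho
      simp only [O, Finset.mem_image, Finset.mem_univ, true_and] at ho
      obtain ⟨n, rfl⟩ := ho
      simp only [MonoidHom.comp_apply, Subgroup.subtype_apply, hc, map_mul, map_inv]
      rw [mul_comm, ← mul_assoc, inv_mul_cancel, one_mul]
    rw [Finset.prod_congr rfl h2, Finset.prod_const] at h1
    exact h1

/-- A finite group with abelian Sylow `2`-subgroups, trivial centre and trivial core has no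
nontrivial abelian `2`-quotient (from the `Z*`-theorem). -/
theorem sylow_le_commutator_of_zstar [Finite Γ] (hZS : ZStarHyp Γ) (hcore : pPrimeCore 2 Γ = ⊥)
    (hZ : center Γ = ⊥) (S : Sylow 2 Γ) (hab : IsMulCommutative (S : Subgroup Γ)) :
    (S : Subgroup Γ) ≤ commutator Γ := by
  haveI : Fact (2 : ℕ).Prime := ⟨Nat.prime_two⟩
  intro a ha
  obtain ⟨y, m, hyS, hm, hinv, hof⟩ := exists_norm_element S hab a ha
  have hy1 : y = 1 := by
    by_contra hne
    obtain ⟨k, hk⟩ := (IsPGroup.iff_orderOf.1 S.2) ⟨y, hyS⟩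
    rw [Subgroup.orderOf_mk] at hk
    have hk0 : k ≠ 0 := by
      rintro rfl
      rw [pow_zero, orderOf_eq_one_iff] at hk
      exact hne hk
    obtain ⟨j, rfl⟩ := Nat.exists_eq_succ_of_ne_zero hk0
    set u := y ^ (2 ^ j) with hu
    have huo : orderOf u = 2 := by
      rw [hu, orderOf_pow' y (by positivity), hk, Nat.gcd_eq_right (pow_dvd_pow 2 (Nat.le_succ j)),
        Nat.succ_eq_add_one, pow_succ, Nat.mul_div_cancel_left _ (by positivity)]
    have huS : u ∈ S := (S : Subgroup Γ).pow_mem hyS _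
    have huinv : ∀ n ∈ normalizer (S : Set Γ), n * u * n⁻¹ = u := by
      intro n hn
      rw [hu, ← conj_pow, hinv n hn]
    have hiso : ∀ g : Γ, g * u * g⁻¹ ∈ S → g * u * g⁻¹ = u := by
      intro g hg
      obtain ⟨n, hn, hgn⟩ := S.conj_eq_normalizer_conj_of_mem u g⁻¹ huS (by simpa using hg)
      rw [inv_inv] at hgn
      rw [hgn]
      have := huinv n⁻¹ (inv_mem hn)
      rwa [inv_inv] at this
    have hcen := mem_center_of_isolated hZS hcore S u huo huS hiso
    rw [hZ, mem_bot] at hcen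
    rw [hcen, orderOf_one] at huo
    omega
  rw [hy1, map_one] at hof
  obtain ⟨k, hk⟩ := (IsPGroup.iff_orderOf.1 S.2) ⟨a, ha⟩
  rw [Subgroup.orderOf_mk] at hk
  have h1 : orderOf (Abelianization.of a) ∣ m := orderOf_dvd_of_pow_eq_one hof.symm
  have h2 : orderOf (Abelianization.of a) ∣ 2 ^ k := hk ▸ orderOf_map_dvd _ a
  have h3 : Nat.Coprime m (2 ^ k) := Nat.Coprime.pow_right _ (Nat.coprime_two_right.2 hm)
  have h4 : orderOf (Abelianization.of a) = 1 := Nat.eq_one_of_dvd_coprimes h3 h1 h2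
  rw [orderOf_eq_one_iff] at h4
  rw [← Abelianization.ker_of, MonoidHom.mem_ker]
  exact h4

end Cfsg.Agent.Lib.Helper55
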