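import Mathlib
import Cfsg.Prelude.Def_Solvable
import Cfsg.Agent.Lib.Lead.Cores
import Cfsg.Agent.Lib.Helper55.AbelSylowTwo

set_option autoImplicit false
set_option linter.style.haveILetI false

/-!
# `2`-automorphisms centralizing an abelian Sylow `2`-subgroup are inner

(`Z(G) = 1 = O(G)`), from the conclusion of the `Z*`-theorem taken as a hypothesis.
-/

namespace Cfsg.Agent.Lib.Helper55

open Cfsg Subgroup
open scoped commutatorElement

theorem inner_of_zstar {G : Type*} [Group G] [Finite G]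
    (hZS : ∀ Γ : Subgroup (MulAut G), ZStarHyp Γ)
    (hZ : center G = ⊥) (hcore : pPrimeCore 2 G = ⊥) (P : Sylow 2 G)
    (hab : IsMulCommutative (P : Subgroup G)) (α : MulAut G) (h2 : ∃ j : ℕ, orderOf α = 2 ^ j)
    (hfix : ∀ x ∈ (P : Subgroup G), α x = x) : ∃ g : G, ∀ x : G, α x = g * x * g⁻¹ := by
  haveI : Fact (2 : ℕ).Prime := ⟨Nat.prime_two⟩
  have hconj : ∀ (γ : MulAut G) (g : G), γ * MulAut.conj g * γ⁻¹ = MulAut.conj (γ g) := by
    intro γ g
    ext x
    simp [MulAut.mul_apply, MulAut.conj_apply, map_mul, map_inv]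
  have hinj : Function.Injective (MulAut.conj : G →* MulAut G) := by
    rw [injective_iff_map_eq_one]
    intro g hg
    have h1 : g ∈ center G := by
      rw [mem_center_iff]
      intro x
      have h3 := DFunLike.congr_fun hg x
      rw [MulAut.conj_apply, MulAut.one_apply] at h3
      calc x * g = g * x * g⁻¹ * g := by rw [h3]
        _ = g * x := by group
    rwa [hZ, mem_bot] at h1
  set Inn : Subgroup (MulAut G) := (MulAut.conj : G →* MulAut G).range with hInn
  haveI hInnN : Inn.Normal := ⟨by rintro _ ⟨g, rfl⟩ γ; exact ⟨γ g, (hconj γ g).symm⟩⟩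
  set Γ : Subgroup (MulAut G) := Inn ⊔ zpowers α with hΓ
  have hInnΓ : Inn ≤ Γ := le_sup_left
  have hαΓ : α ∈ Γ := (le_sup_right : zpowers α ≤ Γ) (mem_zpowers α)
  have hdecomp : ∀ x ∈ Γ, ∃ g : G, ∃ k : ℤ, x = MulAut.conj g * α ^ k := by
    intro x hx
    obtain ⟨_, ⟨g, rfl⟩, _, ⟨k, rfl⟩, rfl⟩ := mem_sup_of_normal_left.1 hx
    exact ⟨g, k, rfl⟩
  have hcent : ∀ γ : MulAut G, (∀ g : G, γ * MulAut.conj g = MulAut.conj g * γ) → γ = 1 := by
    intro γ h
    ext g
    have h1 : MulAut.conj (γ g) = MulAut.conj g := by rw [← hconj, h, mul_inv_cancel_right]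
    exact hinj h1
  let f : G →* Γ := (MulAut.conj : G →* MulAut G).codRestrict Γ (fun g => hInnΓ ⟨g, rfl⟩)
  have hfval : ∀ g : G, ((f g : Γ) : MulAut G) = MulAut.conj g := fun g => rfl
  have hf : Function.Injective f := by
    intro x y hxy
    exact hinj (congrArg Subtype.val hxy)
  have hZΓ : center Γ = ⊥ := by
    rw [eq_bot_iff]
    intro z hz
    rw [mem_bot]
    ext1
    apply hcent
    intro g
    have h1 := (mem_center_iff.1 hz) (f g)
    exact (congrArg Subtype.val h1).symm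
  have hcoreΓ : pPrimeCore 2 Γ = ⊥ := by
    have h1 : (pPrimeCore 2 Γ).comap f ≤ pPrimeCore 2 G := by
      apply Cfsg.Agent.Lib.Lead.le_pPrimeCore (Subgroup.Normal.comap inferInstance f)
      exact Nat.Coprime.coprime_dvd_left (card_comap_dvd_of_injective _ f hf)
        (Cfsg.Agent.Lib.Lead.card_pPrimeCore_coprime 2)
    rw [hcore] at h1
    rw [eq_bot_iff]
    intro r hr
    rw [mem_bot]
    ext1
    apply hcent
    intro g
    have h3 : r * f g * r⁻¹ * (f g)⁻¹ ∈ pPrimeCore 2 Γ := by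
      have h4 : f g * r⁻¹ * (f g)⁻¹ ∈ pPrimeCore 2 Γ :=
        (inferInstance : (pPrimeCore 2 Γ).Normal).conj_mem _ (inv_mem hr) _
      have h5 := mul_mem hr h4
      have h6 : r * (f g * r⁻¹ * (f g)⁻¹) = r * f g * r⁻¹ * (f g)⁻¹ := by group
      rwa [h6] at h5
    have h7 : r * f g * r⁻¹ * (f g)⁻¹ = f ((r : MulAut G) g * g⁻¹) := by
      ext1
      rw [hfval, map_mul, map_inv, ← hconj]
      rfl
    rw [h7] at h3
    have h8 : (r : MulAut G) g * g⁻¹ = 1 := by
      have := h1 (mem_comap.2 h3)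
      rwa [mem_bot] at this
    have h9 : (r : MulAut G) g = g := mul_inv_eq_one.1 h8
    have h10 := hconj (r : MulAut G) g
    rw [h9] at h10
    exact mul_inv_eq_iff_eq_mul.1 h10
  have hcomm : commutator Γ ≤ Inn.subgroupOf Γ := by
    rw [commutator_def, Subgroup.commutator_le]
    intro x _ y _
    rw [mem_subgroupOf]
    obtain ⟨g, k, hx⟩ := hdecomp x x.2
    obtain ⟨h, l, hy⟩ := hdecomp y y.2
    rw [← QuotientGroup.eq_one_iff]
    have h1 : ((⁅x, y⁆ : Γ) : MulAut G) = ⁅(x : MulAut G), (y : MulAut G)⁆ := rfl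
    have hq : ∀ g : G, ((MulAut.conj g : MulAut G) : MulAut G ⧸ Inn) = 1 :=
      fun g => (QuotientGroup.eq_one_iff _).2 ⟨g, rfl⟩
    rw [h1]
    change (QuotientGroup.mk' Inn) ⁅(x : MulAut G), (y : MulAut G)⁆ = 1
    rw [map_commutatorElement, commutatorElement_eq_one_iff_commute, hx, hy, map_mul, map_mul,
      map_zpow, map_zpow]
    simp only [QuotientGroup.mk'_apply, hq, one_mul]
    exact Commute.zpow_zpow_self _ k l
  -- the Sylow subgroup
  have hαP : ∀ g ∈ P, Commute α (MulAut.conj g) := by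
    intro g hg
    have h1 := hconj α g
    rw [hfix g hg] at h1
    exact mul_inv_eq_iff_eq_mul.1 h1
  have hα2 : IsPGroup 2 (zpowers α) := by
    obtain ⟨j, hj⟩ := h2
    apply IsPGroup.of_card (n := j)
    rw [Nat.card_zpowers, hj]
  have hS0 : IsPGroup 2 ((P : Subgroup G).map (MulAut.conj : G →* MulAut G) ⊔ zpowers α :
      Subgroup (MulAut G)) := by
    apply IsPGroup.to_sup_of_normal_left' (P.2.map _) hα2
    rw [zpowers_le, mem_normalizer_iff]
    intro x
    constructor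
    · rintro ⟨g, hg, rfl⟩
      rw [hconj, hfix g hg]
      exact ⟨g, hg, rfl⟩
    · rintro ⟨g, hg, hgx⟩
      have h1 : x = α⁻¹ * MulAut.conj g * α := by rw [hgx]; group
      have h3 : α⁻¹ * MulAut.conj g * α = MulAut.conj g := by
        rw [mul_assoc, ← (hαP g hg).eq, inv_mul_cancel_left]
      rw [h1, h3]
      exact ⟨g, hg, rfl⟩
  obtain ⟨T, hT⟩ := (hS0.comap_of_injective Γ.subtype Γ.subtype_injective).exists_le_sylow
  have hαT : (⟨α, hαΓ⟩ : Γ) ∈ T := by
    apply hT
    rw [mem_comap]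
    exact (le_sup_right : zpowers α ≤ _) (mem_zpowers α)
  have hPT : (T : Subgroup Γ).comap f = P := by
    apply P.is_maximal' (T.2.comap_of_injective f hf)
    intro g hg
    rw [mem_comap]
    apply hT
    rw [mem_comap]
    exact (le_sup_left : (P : Subgroup G).map (MulAut.conj : G →* MulAut G) ≤ _) ⟨g, hg, rfl⟩
  have hTdecomp : ∀ t ∈ T, ∃ g ∈ P, ∃ k : ℤ, (t : MulAut G) = MulAut.conj g * α ^ k := by
    intro t ht
    obtain ⟨g, k, hgk⟩ := hdecomp t t.2
    refine ⟨g, ?_, k, hgk⟩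
    have h1 : f g = t * (⟨α, hαΓ⟩ : Γ) ^ (-k) := by
      ext1
      rw [hfval, coe_mul, hgk, coe_zpow]
      simp
    have h3 : f g ∈ T := by
      rw [h1]
      exact mul_mem ht (zpow_mem hαT _)
    have h4 : g ∈ (T : Subgroup Γ).comap f := mem_comap.2 h3
    rwa [hPT] at h4
  have hTab : IsMulCommutative (T : Subgroup Γ) := by
    refine ⟨⟨fun x y => ?_⟩⟩
    obtain ⟨g, hg, k, hx⟩ := hTdecomp x x.2
    obtain ⟨h, hh, l, hy⟩ := hTdecomp y y.2
    ext1
    ext1
    change ((x : Γ) : MulAut G) * ((y : Γ) : MulAut G) = ((y : Γ) : MulAut G) * ((x : Γ) : MulAut G)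
    rw [hx, hy]
    have c1 : Commute (MulAut.conj g) (MulAut.conj h) := by
      have := hab.is_comm.comm (⟨g, hg⟩ : (P : Subgroup G)) ⟨h, hh⟩
      have h5 : g * h = h * g := congrArg Subtype.val this
      change MulAut.conj g * MulAut.conj h = MulAut.conj h * MulAut.conj g
      rw [← map_mul, ← map_mul, h5]
    have c2 : Commute (MulAut.conj g) (α ^ l) := ((hαP g hg).zpow_left l).symm
    have c3 : Commute (α ^ k) (MulAut.conj h) := (hαP h hh).zpow_left k
    have c4 : Commute (α ^ k) (α ^ l) := Commute.zpow_zpow_self α k l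
    exact ((c1.mul_right c2).mul_left (c3.mul_right c4)).eq
  have hfin := hcomm (sylow_le_commutator_of_zstar (hZS Γ) hcoreΓ hZΓ T hTab hαT)
  rw [mem_subgroupOf] at hfin
  obtain ⟨g, hg⟩ := hfin
  refine ⟨g, fun x => ?_⟩
  have h1 : MulAut.conj g = α := hg
  rw [← h1, MulAut.conj_apply]

end Cfsg.Agent.Lib.Helper55
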