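import Mathlib
import Cfsg.Agent.Lib.Helper75.TIC2
import Cfsg.Agent.Lib.Helper19.ZasData

set_option autoImplicit false

/-! # S3043 farm, piece A1: the Zassenhaus data -/

namespace Cfsg.Agent.Lib.Helper55.Bend

open Cfsg.Agent.Lib.Helper75.Bend Cfsg.Agent.Lib.Helper19 MulAction

variable {G : Type*} [Group G] {M : Subgroup G} {z : G}

theorem fix_iff55 (y g : G) :
    y • (QuotientGroup.mk g : G ⧸ Subgroup.normalizer (M : Set G)) = QuotientGroup.mk g ↔
    g⁻¹ * y * g ∈ Subgroup.normalizer (M : Set G) := by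
  rw [MulAction.Quotient.smul_mk, QuotientGroup.eq, smul_eq_mul]
  have e : (y * g)⁻¹ * g = (g⁻¹ * y * g)⁻¹ := by group
  rw [e, Subgroup.inv_mem_iff]

theorem mk_eq_one_iff55 (g : G) :
    (QuotientGroup.mk g : G ⧸ Subgroup.normalizer (M : Set G)) = QuotientGroup.mk 1 ↔
    g ∈ Subgroup.normalizer (M : Set G) := by
  rw [QuotientGroup.eq, mul_one, Subgroup.inv_mem_iff]

theorem fix_one_iff55 (y : G) :
    y • (QuotientGroup.mk 1 : G ⧸ Subgroup.normalizer (M : Set G)) = QuotientGroup.mk 1 ↔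
    y ∈ Subgroup.normalizer (M : Set G) := by
  rw [fix_iff55]
  simp

variable [Finite G]

theorem stab_inf (h : TIS M z) {u : G} (huz : u * z = z * u)
    (huN : u ∉ Subgroup.normalizer (M : Set G)) :
    stabilizer G (QuotientGroup.mk 1 : G ⧸ Subgroup.normalizer (M : Set G)) ⊓
      stabilizer G (QuotientGroup.mk u : G ⧸ Subgroup.normalizer (M : Set G)) =
    Subgroup.normalizer (M : Set G) ⊓ Subgroup.centralizer ({z} : Set G) := by
  have hu : orderOf u = 2 := h.invol_of_comm huz huN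
  have hui : u⁻¹ = u := Cfsg.Agent.Lib.Helper75.inv_of_orderOf_two hu
  ext g
  rw [Subgroup.mem_inf, Subgroup.mem_inf, mem_stabilizer_iff, mem_stabilizer_iff, fix_one_iff55,
    fix_iff55, Subgroup.mem_centralizer_singleton_iff]
  constructor
  · rintro ⟨hgN, hgu⟩
    refine ⟨hgN, ?_⟩
    have hgu' : u * g * u⁻¹ ∈ Subgroup.normalizer (M : Set G) := by
      rw [hui] at hgu ⊢
      exact hgu
    have e1 := h.inverts hu huN hgN hgu'
    have ez : u * z * u⁻¹ = z := by rw [huz]; group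
    have hgz : u * (g * z) * u⁻¹ ∈ Subgroup.normalizer (M : Set G) := by
      have e : u * (g * z) * u⁻¹ = (u * g * u⁻¹) * (u * z * u⁻¹) := by group
      rw [e, ez]
      exact Subgroup.mul_mem _ hgu' h.tic.zN
    have e2 := h.inverts hu huN (Subgroup.mul_mem _ hgN h.tic.zN) hgz
    have e3 : u * (g * z) * u⁻¹ = g⁻¹ * z := by
      have e : u * (g * z) * u⁻¹ = (u * g * u⁻¹) * (u * z * u⁻¹) := by group
      rw [e, ez, e1]
    rw [e3, mul_inv_rev, h.tic.z_inv] at e2
    -- g⁻¹ z = z g⁻¹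
    calc g * z = g * (z * g⁻¹) * g := by group
      _ = g * (g⁻¹ * z) * g := by rw [e2]
      _ = z * g := by group
  · rintro ⟨hgN, hgz⟩
    refine ⟨hgN, ?_⟩
    have := h.inverts_of_comm huz huN hgN hgz
    rw [hui] at this ⊢
    rw [this]
    exact Subgroup.inv_mem _ hgN

theorem zdata (h : TIS M z) {u : G} (huz : u * z = z * u)
    (huN : u ∉ Subgroup.normalizer (M : Set G))
    (hA : ∀ w, w * z = z * w → w ∉ Subgroup.normalizer (M : Set G) →
      u * w ∈ Subgroup.normalizer (M : Set G)) :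
    ZData G (G ⧸ Subgroup.normalizer (M : Set G)) (QuotientGroup.mk 1) (QuotientGroup.mk u) M := by
  have hu : orderOf u = 2 := h.invol_of_comm huz huN
  have hui : u⁻¹ = u := Cfsg.Agent.Lib.Helper75.inv_of_orderOf_two hu
  have huu : u * u = 1 := Cfsg.Agent.Lib.Helper75.mul_self_of_orderOf_two hu
  set a : G ⧸ Subgroup.normalizer (M : Set G) := QuotientGroup.mk 1 with ha
  set b : G ⧸ Subgroup.normalizer (M : Set G) := QuotientGroup.mk u with hb
  have hab : a ≠ b := by
    intro e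
    exact huN ((mk_eq_one_iff55 u).1 e.symm)
  have Kfix : ∀ k ∈ M, k • a = a := fun k hk => (fix_one_iff55 k).2 (le_N hk)
  have Knorm : ∀ g : G, g • a = a → ∀ k ∈ M, g * k * g⁻¹ ∈ M :=
    fun g hg k hk => conj_mem ((fix_one_iff55 g).1 hg) hk
  have Ktrans : ∀ c : G ⧸ Subgroup.normalizer (M : Set G), c ≠ a → ∃ k ∈ M, k • b = c := by
    intro c hc
    obtain ⟨g, rfl⟩ := QuotientGroup.mk_surjective c
    have hg : g ∉ Subgroup.normalizer (M : Set G) := fun hcon => hc ((mk_eq_one_iff55 g).2 hcon)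
    obtain ⟨a', ha', w, hwz, hwN, b', hb', rfl⟩ := h.decomp hg
    refine ⟨a', ha', ?_⟩
    rw [hb, MulAction.Quotient.smul_mk, QuotientGroup.eq, smul_eq_mul]
    have e : (a' * u)⁻¹ * (a' * w * b') = (u * w) * b' := by
      rw [mul_inv_rev, hui]; group
    rw [e]
    exact Subgroup.mul_mem _ (hA w hwz hwN) (le_N hb')
  have Kfree : ∀ k ∈ M, ∀ c : G ⧸ Subgroup.normalizer (M : Set G), c ≠ a → k • c = c → k = 1 := by
    intro k hk c hc hkc
    obtain ⟨g, rfl⟩ := QuotientGroup.mk_surjective c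
    have hg : g ∉ Subgroup.normalizer (M : Set G) := fun hcon => hc ((mk_eq_one_iff55 g).2 hcon)
    exact h.eq_one_of_conj_mem' hg hk ((fix_iff55 k g).1 hkc)
  have move : ∀ {p q : G ⧸ Subgroup.normalizer (M : Set G)}, p ≠ q → ∃ g : G, g • p = a ∧ g • q = b := by
    intro p q hpq
    obtain ⟨x, rfl⟩ := QuotientGroup.mk_surjective p
    have h1 : x⁻¹ • (QuotientGroup.mk x : G ⧸ Subgroup.normalizer (M : Set G)) = a := by
      rw [MulAction.Quotient.smul_mk, smul_eq_mul, inv_mul_cancel]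
    have h2 : x⁻¹ • q ≠ a := by
      rw [← h1]
      intro e
      exact hpq (MulAction.injective _ e).symm
    obtain ⟨k, hk, hkb⟩ := Ktrans _ h2
    refine ⟨k⁻¹ * x⁻¹, ?_, ?_⟩
    · rw [mul_smul, h1, inv_smul_eq_iff, Kfix k hk]
    · rw [mul_smul, ← hkb, inv_smul_smul]
  have three : ∀ g : G, ∀ p q r : G ⧸ Subgroup.normalizer (M : Set G), p ≠ q → q ≠ r → p ≠ r →
      g • p = p → g • q = q → g • r = r → g = 1 := by
    intro g p q r hpq hqr hpr hp hq hr
    obtain ⟨t, htp, htq⟩ := move hpq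
    obtain ⟨y, hy⟩ : ∃ y, y = t * g * t⁻¹ := ⟨_, rfl⟩
    have fixy : ∀ s : G ⧸ Subgroup.normalizer (M : Set G), g • s = s → y • (t • s) = t • s := by
      intro s hs
      rw [hy, mul_smul, mul_smul, inv_smul_smul, hs]
    have hya : y • a = a := by rw [← htp]; exact fixy p hp
    have hyb : y • b = b := by rw [← htq]; exact fixy q hq
    have hyc := fixy r hr
    have hca : t • r ≠ a := by
      rw [← htp]; intro e; exact hpr (MulAction.injective _ e).symm
    have hcb : t • r ≠ b := by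
      rw [← htq]; intro e; exact hqr (MulAction.injective _ e).symm
    obtain ⟨k, hk, hkb⟩ := Ktrans _ hca
    have hk1 : k ≠ 1 := by
      intro e
      rw [e, one_smul] at hkb
      exact hcb hkb.symm
    have hyN : y ∈ Subgroup.normalizer (M : Set G) := (fix_one_iff55 y).1 hya
    have hyu : u * y * u⁻¹ ∈ Subgroup.normalizer (M : Set G) := by
      have := (fix_iff55 y u).1 hyb
      rw [hui] at this ⊢
      exact this
    have hcomm : y * k = k * y := by
      have h1 : k⁻¹ * (y * k * y⁻¹) ∈ M := M.mul_mem (M.inv_mem hk) (conj_mem hyN hk)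
      have h2 : (k⁻¹ * (y * k * y⁻¹)) • b = b := by
        have e1 : y⁻¹ • b = b := by rw [inv_smul_eq_iff, hyb]
        rw [mul_smul, mul_smul, mul_smul, e1, hkb, hyc, ← hkb, inv_smul_smul]
      have h3 := Kfree _ h1 b hab.symm h2
      calc y * k = k * (k⁻¹ * (y * k * y⁻¹)) * y := by group
        _ = k * y := by rw [h3, mul_one]
    have hy1 : y = 1 := h.free hu huN hyN hyu hk hk1 hcomm
    rw [hy] at hy1
    have := congrArg (fun w => t⁻¹ * w * t) hy1
    simpa [mul_assoc] using this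
  refine ⟨⟨?_, ?_, three⟩, hab, Kfix, Knorm, Ktrans, Kfree⟩
  · intro g hg
    obtain ⟨k, hk, hk1⟩ := h.tic.exists_ne
    have h1 : k • b ≠ b := fun e => hk1 (Kfree k hk b hab.symm e)
    have h2 : k • b ≠ a := by
      intro e
      rw [← Kfix k hk] at e
      exact hab (MulAction.injective _ e).symm
    exact three g a b (k • b) hab h1.symm h2.symm (hg _) (hg _) (hg _)
  · intro p q r s hpq hrs
    obtain ⟨g₁, h1, h2⟩ := move hpq
    obtain ⟨g₂, h3, h4⟩ := move hrs
    refine ⟨g₂⁻¹ * g₁, ?_, ?_⟩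
    · rw [mul_smul, h1, ← h3, inv_smul_smul]
    · rw [mul_smul, h2, ← h4, inv_smul_smul]

end Cfsg.Agent.Lib.Helper55.Bend
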