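import Mathlib
import Cfsg.Agent.Lib.Helper75.TIC2

set_option autoImplicit false

/-! # S3043 farm, piece F: three counting formulas -/

namespace Cfsg.Agent.Lib.Helper55.Bend

open Cfsg.Agent.Lib.Helper75.Bend

theorem card_split {α : Type*} [Finite α] (p q : α → Prop) :
    Nat.card {x // p x} = Nat.card {x // p x ∧ q x} + Nat.card {x // p x ∧ ¬ q x} := by
  classical
  have e : {x // p x} ≃ {x // p x ∧ q x} ⊕ {x // p x ∧ ¬ q x} :=
    { toFun := fun x => if h : q x.1 then Sum.inl ⟨x.1, x.2, h⟩ else Sum.inr ⟨x.1, x.2, h⟩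
      invFun := fun y => Sum.elim (fun a => ⟨a.1, a.2.1⟩) (fun a => ⟨a.1, a.2.1⟩) y
      left_inv := fun x => by
        by_cases h : q x.1 <;> simp [h]
      right_inv := fun y => by
        rcases y with ⟨a, ha, hq⟩ | ⟨a, ha, hq⟩ <;> simp [hq] }
  rw [Nat.card_congr e, Nat.card_sum]

theorem card_split' {α : Type*} [Finite α] (q : α → Prop) :
    Nat.card α = Nat.card {x // q x} + Nat.card {x // ¬ q x} := by
  classical
  rw [← Nat.card_sum]
  exact Nat.card_congr (Equiv.sumCompl q).symm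

variable {G : Type*} [Group G] [Finite G] {M : Subgroup G} {z : G}

theorem card_N (h : TIC M z) :
    Nat.card ↥(Subgroup.normalizer (M : Set G)) =
      Nat.card M * Nat.card ↥(Subgroup.normalizer (M : Set G) ⊓ Subgroup.centralizer ({z} : Set G)) := by
  rw [← Nat.card_prod]
  symm
  let f : M × ↥(Subgroup.normalizer (M : Set G) ⊓ Subgroup.centralizer ({z} : Set G)) →
      ↥(Subgroup.normalizer (M : Set G)) :=
    fun p => ⟨p.1.1 * p.2.1, Subgroup.mul_mem _ (le_N p.1.2) p.2.2.1⟩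
  apply Nat.card_congr (Equiv.ofBijective f ⟨?_, ?_⟩)
  · rintro ⟨⟨m, hm⟩, ⟨c, hcN, hcC⟩⟩ ⟨⟨m', hm'⟩, ⟨c', hcN', hcC'⟩⟩ he
    have he' : m * c = m' * c' := congrArg Subtype.val he
    replace hcC : c * z = z * c := Subgroup.mem_centralizer_singleton_iff.1 hcC
    replace hcC' : c' * z = z * c' := Subgroup.mem_centralizer_singleton_iff.1 hcC'
    have h1 : m'⁻¹ * m = c' * c⁻¹ := by
      calc m'⁻¹ * m = m'⁻¹ * (m * c) * c⁻¹ := by group
        _ = c' * c⁻¹ := by rw [he']; group
    have h2 : m'⁻¹ * m ∈ M := M.mul_mem (M.inv_mem hm') hm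
    have h3 : z * (m'⁻¹ * m) = (m'⁻¹ * m) * z := by
      rw [h1]
      have hc1 : c⁻¹ * z = z * c⁻¹ := by
        calc c⁻¹ * z = c⁻¹ * (z * c) * c⁻¹ := by group
          _ = c⁻¹ * (c * z) * c⁻¹ := by rw [hcC]
          _ = z * c⁻¹ := by group
      calc z * (c' * c⁻¹) = (z * c') * c⁻¹ := by group
        _ = (c' * z) * c⁻¹ := by rw [hcC']
        _ = c' * (z * c⁻¹) := by group
        _ = c' * (c⁻¹ * z) := by rw [hc1]
        _ = c' * c⁻¹ * z := by group
    have h4 := h.eq_one_of_comm h2 h.hz h3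
    have h5 : m = m' := by
      have := congrArg (fun x => m' * x) h4
      simpa using this
    subst h5
    have h6 : c = c' := mul_left_cancel he'
    subst h6
    rfl
  · rintro ⟨n, hn⟩
    obtain ⟨m, hm, c, hcN, hcz, rfl⟩ := h.fac n hn
    exact ⟨⟨⟨m, hm⟩, ⟨c, hcN, Subgroup.mem_centralizer_singleton_iff.2 hcz⟩⟩, rfl⟩

theorem card_G (h : TIS M z) :
    Nat.card G + Nat.card M ^ 2 *
        Nat.card ↥(Subgroup.normalizer (M : Set G) ⊓ Subgroup.centralizer ({z} : Set G)) =
      Nat.card ↥(Subgroup.normalizer (M : Set G)) +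
        Nat.card M ^ 2 * Nat.card ↥(Subgroup.centralizer ({z} : Set G)) := by
  have h1 : Nat.card G = Nat.card ↥(Subgroup.normalizer (M : Set G)) +
      Nat.card {g : G // g ∉ Subgroup.normalizer (M : Set G)} :=
    card_split' (fun g => g ∈ Subgroup.normalizer (M : Set G))
  have h2 : Nat.card ↥(Subgroup.centralizer ({z} : Set G)) =
      Nat.card ↥(Subgroup.normalizer (M : Set G) ⊓ Subgroup.centralizer ({z} : Set G)) +
      Nat.card {w : G // w ∈ Subgroup.centralizer ({z} : Set G) ∧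
        w ∉ Subgroup.normalizer (M : Set G)} := by
    have := card_split (fun w : G => w ∈ Subgroup.centralizer ({z} : Set G))
      (fun w => w ∈ Subgroup.normalizer (M : Set G))
    rw [show Nat.card ↥(Subgroup.centralizer ({z} : Set G)) =
      Nat.card {w : G // w ∈ Subgroup.centralizer ({z} : Set G)} from rfl, this]
    congr 1
    exact Nat.card_congr (Equiv.subtypeEquivRight fun w => by
      rw [Subgroup.mem_inf]; exact and_comm)
  have h3 : Nat.card {g : G // g ∉ Subgroup.normalizer (M : Set G)} =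
      Nat.card M ^ 2 * Nat.card {w : G // w ∈ Subgroup.centralizer ({z} : Set G) ∧
        w ∉ Subgroup.normalizer (M : Set G)} := by
    have h4 : Nat.card (M × {w : G // w ∈ Subgroup.centralizer ({z} : Set G) ∧
        w ∉ Subgroup.normalizer (M : Set G)} × M) =
        Nat.card {g : G // g ∉ Subgroup.normalizer (M : Set G)} := by
      let f : M × {w : G // w ∈ Subgroup.centralizer ({z} : Set G) ∧
          w ∉ Subgroup.normalizer (M : Set G)} × M →
          {g : G // g ∉ Subgroup.normalizer (M : Set G)} :=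
        fun p => ⟨p.1.1 * p.2.1.1 * p.2.2.1, fun hcon => p.2.1.2.2 (by
          have e : p.2.1.1 = p.1.1⁻¹ * (p.1.1 * p.2.1.1 * p.2.2.1) * p.2.2.1⁻¹ := by group
          rw [e]
          exact Subgroup.mul_mem _ (Subgroup.mul_mem _ (Subgroup.inv_mem _ (le_N p.1.2)) hcon)
            (Subgroup.inv_mem _ (le_N p.2.2.2)))⟩
      apply Nat.card_congr (Equiv.ofBijective f ⟨?_, ?_⟩)
      · rintro ⟨⟨a, ha⟩, ⟨w, hwC, hwN⟩, ⟨b, hb⟩⟩ ⟨⟨a', ha'⟩, ⟨w', hwC', hwN'⟩, ⟨b', hb'⟩⟩ he
        have he' : a * w * b = a' * w' * b' := congrArg Subtype.val he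
        obtain ⟨e1, e2, e3⟩ := h.decomp_unique ha hb ha' hb'
          (Subgroup.mem_centralizer_singleton_iff.1 hwC)
          (Subgroup.mem_centralizer_singleton_iff.1 hwC') hwN he'
        subst e1 e2 e3
        rfl
      · rintro ⟨g, hg⟩
        obtain ⟨a, ha, w, hwz, hwN, b, hb, rfl⟩ := h.decomp hg
        exact ⟨⟨⟨a, ha⟩, ⟨w, Subgroup.mem_centralizer_singleton_iff.2 hwz, hwN⟩, ⟨b, hb⟩⟩, rfl⟩
    rw [← h4, Nat.card_prod, Nat.card_prod]
    ring
  rw [h1, h2, h3]
  ring

theorem card_invol (h : TIS M z) :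
    Nat.card G + Nat.card M ^ 2 =
      Nat.card ↥(Subgroup.normalizer (M : Set G)) +
        Nat.card M * Nat.card {g : G // orderOf g = 2} := by
  have h1 : Nat.card G = Nat.card ↥(Subgroup.normalizer (M : Set G)) +
      Nat.card {g : G // g ∉ Subgroup.normalizer (M : Set G)} :=
    card_split' (fun g => g ∈ Subgroup.normalizer (M : Set G))
  have h2 := card_split (fun g : G => orderOf g = 2) (fun g => g ∈ Subgroup.normalizer (M : Set G))
  have h3 : Nat.card {g : G // orderOf g = 2 ∧ g ∈ Subgroup.normalizer (M : Set G)} = Nat.card M := by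
    symm
    let f : M → {g : G // orderOf g = 2 ∧ g ∈ Subgroup.normalizer (M : Set G)} :=
      fun m => ⟨m.1 * z, h.tic.orderOf_mul_z m.2, Subgroup.mul_mem _ (le_N m.2) h.tic.zN⟩
    apply Nat.card_congr (Equiv.ofBijective f ⟨?_, ?_⟩)
    · rintro ⟨m, hm⟩ ⟨m', hm'⟩ he
      have he' : m * z = m' * z := congrArg Subtype.val he
      exact Subtype.ext (mul_right_cancel he')
    · rintro ⟨y, hy, hyN⟩
      obtain ⟨m, hm, rfl⟩ := h.tic.invol_eq hyN hy
      exact ⟨⟨m, hm⟩, rfl⟩
  have h4 : Nat.card {g : G // g ∉ Subgroup.normalizer (M : Set G)} =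
      Nat.card M * Nat.card {g : G // orderOf g = 2 ∧ g ∉ Subgroup.normalizer (M : Set G)} := by
    rw [← Nat.card_prod]
    symm
    let f : M × {g : G // orderOf g = 2 ∧ g ∉ Subgroup.normalizer (M : Set G)} →
        {g : G // g ∉ Subgroup.normalizer (M : Set G)} :=
      fun p => ⟨p.1.1 * p.2.1, fun hcon => p.2.2.2 (by
        have e : p.2.1 = p.1.1⁻¹ * (p.1.1 * p.2.1) := by group
        rw [e]
        exact Subgroup.mul_mem _ (Subgroup.inv_mem _ (le_N p.1.2)) hcon)⟩
    apply Nat.card_congr (Equiv.ofBijective f ⟨?_, ?_⟩)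
    · rintro ⟨⟨m, hm⟩, ⟨u, hu, huN⟩⟩ ⟨⟨m', hm'⟩, ⟨u', hu', huN'⟩⟩ he
      have he' : m * u = m' * u' := congrArg Subtype.val he
      have h5 : u * u'⁻¹ ∈ M := by
        have e : u * u'⁻¹ = m⁻¹ * m' := by
          calc u * u'⁻¹ = m⁻¹ * (m * u) * u'⁻¹ := by group
            _ = m⁻¹ * m' := by rw [he']; group
        rw [e]
        exact M.mul_mem (M.inv_mem hm) hm'
      have h6 := h.tic.invol_unique hu hu' huN h5
      subst h6
      have h7 : m = m' := mul_right_cancel he'
      subst h7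
      rfl
    · rintro ⟨g, hg⟩
      obtain ⟨m, hm, hmg⟩ := h.star g hg
      refine ⟨⟨⟨m⁻¹, M.inv_mem hm⟩, ⟨m * g, hmg, fun hcon => hg ?_⟩⟩, ?_⟩
      · have e : g = m⁻¹ * (m * g) := by group
        rw [e]
        exact Subgroup.mul_mem _ (Subgroup.inv_mem _ (le_N hm)) hcon
      · apply Subtype.ext
        show m⁻¹ * (m * g) = g
        group
  rw [h1, h2, h3, h4]
  ring

end Cfsg.Agent.Lib.Helper55.Bend
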