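import Mathlib
import Cfsg.Agent.S0144
import Cfsg.Agent.Lib.Helper96.NearFieldGroup
import Cfsg.Agent.Lib.Helper32.FrobSL25

set_option autoImplicit false
set_option linter.style.haveILetI false

/-!
# Generic lemmas for S4118: perfect groups acting on groups with solvable automorphism group,
automorphisms of quaternion groups, fixed-point-free sections (modulo Zassenhaus S0690)
-/

namespace Cfsg.Agent.Lib.Helper55.TISolv


open Subgroup

theorem derivedSeries_eq_top_of_perfect {L : Type*} [Group L] (h : commutator L = ⊤) (n : ℕ) :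
    derivedSeries L n = ⊤ := by
  induction n with
  | zero => rfl
  | succ n ih => rw [derivedSeries_succ, ih, ← commutator_def, h]

theorem map_eq_bot_of_perfect {L M : Type*} [Group L] [Group M] (h : commutator L = ⊤)
    (hM : Group.IsSolvable M) (f : L →* M) (x : L) : f x = 1 := by
  obtain ⟨n, hn⟩ := hM.solvable
  have h1 := map_derivedSeries_le_derivedSeries f n
  rw [derivedSeries_eq_top_of_perfect h, hn] at h1
  exact (mem_bot.1 (h1 ⟨x, mem_top x, rfl⟩))

theorem commutator_subtype_eq_top' {G : Type*} [Group G] {S : Subgroup G} (h : ⁅S, S⁆ = S) :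
    commutator S = ⊤ := by
  have h1 := map_commutator (⊤ : Subgroup S) ⊤ S.subtype
  rw [← commutator_def, ← MonoidHom.range_eq_map, range_subtype, h] at h1
  apply map_injective S.subtype_injective
  rw [h1, ← MonoidHom.range_eq_map, range_subtype]

theorem eq_bot_of_perfect_of_isSolvable {G : Type*} [Group G] {S : Subgroup G} (h : ⁅S, S⁆ = S)
    (hs : Group.IsSolvable S) : S = ⊥ := by
  rw [eq_bot_iff]
  intro x hx
  have := map_eq_bot_of_perfect (commutator_subtype_eq_top' h) hs (MonoidHom.id S) ⟨x, hx⟩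
  exact congrArg Subtype.val this

/-- a perfect group normalizing `S` centralizes it when `Aut S` is solvable -/
theorem perfect_le_centralizer {G : Type*} [Group G] {L S : Subgroup G}
    (hL : L ≤ normalizer (S : Set G)) (hperf : ⁅L, L⁆ = L) (hS : Group.IsSolvable (MulAut S)) :
    L ≤ centralizer (S : Set G) := by
  intro x hx
  have h1 := map_eq_bot_of_perfect (commutator_subtype_eq_top' hperf) hS
    (S.normalizerMonoidHom.comp (inclusion hL)) ⟨x, hx⟩
  have h2 : (inclusion hL ⟨x, hx⟩ : normalizer (S : Set G)) ∈ S.normalizerMonoidHom.ker := h1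
  rw [normalizerMonoidHom_ker, mem_subgroupOf] at h2
  exact h2

theorem isSolvable_mulAut_of_isCyclic {S : Type*} [Group S] (h : IsCyclic S) :
    Group.IsSolvable (MulAut S) := by
  apply Group.isSolvable_of_comm
  intro φ ψ
  obtain ⟨g, hg⟩ := h.exists_generator
  obtain ⟨i, hi⟩ := mem_zpowers_iff.1 (hg (φ g))
  obtain ⟨j, hj⟩ := mem_zpowers_iff.1 (hg (ψ g))
  ext x
  obtain ⟨k, rfl⟩ := mem_zpowers_iff.1 (hg x)
  have h1 : φ (ψ g) = ψ (φ g) := by
    rw [← hi, ← hj, map_zpow, map_zpow, ← hi, ← hj, ← zpow_mul, ← zpow_mul, mul_comm]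
  rw [MulAut.mul_apply, MulAut.mul_apply, map_zpow, map_zpow, map_zpow, map_zpow, h1]

theorem isSolvable_mulAut_congr {S T : Type*} [Group S] [Group T] (e : S ≃* T)
    (h : Group.IsSolvable (MulAut T)) : Group.IsSolvable (MulAut S) :=
  Group.isSolvable_of_isSolvable_injective (f := (MulAut.congr e).toMonoidHom) (MulAut.congr e).injective



section quat
open QuaternionGroup

theorem quat_aut_a {m : ℕ} [NeZero m] (hm : m ≠ 2) (φ : MulAut (QuaternionGroup m)) :
    ∃ i : ℕ, φ (a 1) = (a 1 : QuaternionGroup m) ^ i := by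
  have h1 : orderOf (φ (a 1)) = 2 * m := by
    rw [MulEquiv.orderOf_eq, orderOf_a_one]
  rcases h : φ (a 1) with i | i
  · refine ⟨i.val, ?_⟩
    rw [a_one_pow, ZMod.natCast_zmod_val]
  · rw [h, orderOf_xa] at h1
    omega

theorem quat_aut_comm {m : ℕ} [NeZero m] (hm : m ≠ 2) (φ ψ : MulAut (QuaternionGroup m)) :
    φ (ψ (a 1)) = ψ (φ (a 1)) := by
  obtain ⟨i, hi⟩ := quat_aut_a hm φ
  obtain ⟨j, hj⟩ := quat_aut_a hm ψ
  rw [hi, hj, map_pow, map_pow, hi, hj, ← pow_mul, ← pow_mul, Nat.mul_comm i j]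

theorem quat_aut_fix {m : ℕ} [NeZero m] (φ : MulAut (QuaternionGroup m)) (h : φ (a 1) = a 1)
    (k : ZMod (2 * m)) : φ (a k) = a k := by
  have h1 : (a k : QuaternionGroup m) = (a 1) ^ k.val := by
    rw [a_one_pow, ZMod.natCast_zmod_val]
  rw [h1, map_pow, h]

theorem quat_aut_xa {m : ℕ} [NeZero m] (φ : MulAut (QuaternionGroup m)) (h : φ (a 1) = a 1) :
    ∃ i, φ (xa 0) = xa i := by
  rcases h1 : φ (xa 0) with i | i
  · exfalso
    have h2 := quat_aut_fix φ h i
    have h3 : (a i : QuaternionGroup m) = xa 0 := φ.injective (h2.trans h1.symm)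
    cases h3
  · exact ⟨i, rfl⟩

theorem isSolvable_mulAut_quat {m : ℕ} [NeZero m] (hm : m ≠ 2) :
    Group.IsSolvable (MulAut (QuaternionGroup m)) := by
  let Fx : Subgroup (MulAut (QuaternionGroup m)) :=
    MulAction.stabilizer (MulAut (QuaternionGroup m)) (a 1 : QuaternionGroup m)
  have hFx : ∀ φ : MulAut (QuaternionGroup m), φ ∈ Fx ↔ φ (a 1) = a 1 := fun φ => Iff.rfl
  have h1 : derivedSeries (MulAut (QuaternionGroup m)) 1 ≤ Fx := by
    rw [derivedSeries_succ, derivedSeries_zero, commutator_le]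
    intro φ _ ψ _
    rw [hFx, commutatorElement_def, MulAut.mul_apply, MulAut.mul_apply, MulAut.mul_apply,
      quat_aut_comm hm φ⁻¹ ψ⁻¹, MulAut.apply_inv_self, MulAut.apply_inv_self]
  refine ⟨⟨2, ?_⟩⟩
  rw [derivedSeries_succ, eq_bot_iff]
  refine (commutator_mono h1 h1).trans ?_
  rw [commutator_le]
  intro φ hφ ψ hψ
  rw [hFx] at hφ hψ
  rw [mem_bot, commutatorElement_eq_one_iff_mul_comm]
  obtain ⟨i, hi⟩ := quat_aut_xa φ hφ
  obtain ⟨j, hj⟩ := quat_aut_xa ψ hψ
  have key : ∀ k, (xa k : QuaternionGroup m) = xa 0 * a k := by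
    intro k; rw [xa_mul_a, zero_add]
  ext x
  rw [MulAut.mul_apply, MulAut.mul_apply]
  rcases x with k | k
  · rw [quat_aut_fix ψ hψ, quat_aut_fix φ hφ, quat_aut_fix ψ hψ]
  · rw [key k, map_mul, map_mul, map_mul, map_mul, quat_aut_fix ψ hψ, quat_aut_fix φ hφ,
      quat_aut_fix ψ hψ, hi, hj, key i, key j, map_mul, map_mul, quat_aut_fix ψ hψ,
      quat_aut_fix φ hφ, hi, hj, key i, key j]
    simp only [mul_assoc, a_mul_a]
    rw [add_comm i j]

theorem isSolvable_mulAut_q8 : Group.IsSolvable (MulAut (QuaternionGroup 2)) := by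
  have h := Cfsg.Agent.Lib.Helper96.nf_card_mulAut_quaternion
  have hfin : Finite (MulAut (QuaternionGroup 2)) :=
    Finite.of_injective (fun φ : MulAut (QuaternionGroup 2) => (φ : QuaternionGroup 2 → QuaternionGroup 2))
      DFunLike.coe_injective
  have h1 : Nat.card (MulAut (QuaternionGroup 2)) ∈ Nat.divisors 24 :=
    Nat.mem_divisors.2 ⟨h, by norm_num⟩
  have h24 : Nat.divisors 24 = {1, 2, 3, 4, 6, 8, 12, 24} := by decide
  rw [h24] at h1
  simp only [Finset.mem_insert, Finset.mem_singleton] at h1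
  rcases h1 with h1 | h1 | h1 | h1 | h1 | h1 | h1 | h1
  · exact Cfsg.Agent.S0144.result 2 3 0 0 Nat.prime_two Nat.prime_three (by rw [h1]; norm_num)
  · exact Cfsg.Agent.S0144.result 2 3 1 0 Nat.prime_two Nat.prime_three (by rw [h1]; norm_num)
  · exact Cfsg.Agent.S0144.result 2 3 0 1 Nat.prime_two Nat.prime_three (by rw [h1]; norm_num)
  · exact Cfsg.Agent.S0144.result 2 3 2 0 Nat.prime_two Nat.prime_three (by rw [h1]; norm_num)
  · exact Cfsg.Agent.S0144.result 2 3 1 1 Nat.prime_two Nat.prime_three (by rw [h1]; norm_num)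
  · exact Cfsg.Agent.S0144.result 2 3 3 0 Nat.prime_two Nat.prime_three (by rw [h1]; norm_num)
  · exact Cfsg.Agent.S0144.result 2 3 2 1 Nat.prime_two Nat.prime_three (by rw [h1]; norm_num)
  · exact Cfsg.Agent.S0144.result 2 3 3 1 Nat.prime_two Nat.prime_three (by rw [h1]; norm_num)

theorem isSolvable_mulAut_quaternion (m : ℕ) [NeZero m] :
    Group.IsSolvable (MulAut (QuaternionGroup m)) := by
  by_cases hm : m = 2
  · subst hm; exact isSolvable_mulAut_q8
  · exact isSolvable_mulAut_quat hm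


end quat



universe u

/-- The statement of S0690 in universe `u`. -/
def Zass : Prop :=
  ∀ (K : Type u) [Group K] [Finite K] (G : Subgroup (MulAut K)),
    (∀ φ ∈ G, φ ≠ 1 → ∀ k : K, φ k = k → k = 1) → commutator G = ⊤ → G ≠ ⊥ →
    Nonempty (G ≃* Matrix.SpecialLinearGroup (Fin 2) (ZMod 5))

theorem solvable_of_fpf_section (hZ : Zass.{u}) {G : Type u} [Group G] [Finite G]
    (H X Y : Subgroup G) (hHX : H ≤ normalizer (X : Set G)) (hHY : H ≤ normalizer (Y : Set G))
    (hYX : Y ≤ X) (hXY : X ≤ normalizer (Y : Set G)) (hne : ¬ X ≤ Y)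
    (hfpf : ∀ h ∈ H, (orderOf h).Prime → ∀ x ∈ X, x⁻¹ * (h * x * h⁻¹) ∈ Y → x ∈ Y)
    (hno : ∀ K : Subgroup G, K ≤ H →
      ¬ Nonempty (K ≃* Matrix.SpecialLinearGroup (Fin 2) (ZMod 5))) :
    Group.IsSolvable H := by
  classical
  set T : Subgroup G := normalizer (X : Set G) ⊓ normalizer (Y : Set G) with hT
  have hXT : X ≤ T := le_inf le_normalizer hXY
  have hHT : H ≤ T := le_inf hHX hHY
  have hYT : Y ≤ T := hYX.trans hXT
  haveI hYn : (Y.subgroupOf T).Normal :=
    (normal_subgroupOf_iff_le_normalizer hYT).2 inf_le_right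
  haveI hXn : (X.subgroupOf T).Normal :=
    (normal_subgroupOf_iff_le_normalizer hXT).2 inf_le_left
  let π := QuotientGroup.mk' (Y.subgroupOf T)
  let Xb : Subgroup (T ⧸ Y.subgroupOf T) := (X.subgroupOf T).map π
  haveI hXbn : Xb.Normal := hXn.map π (QuotientGroup.mk'_surjective _)
  let ρ : H →* MulAut Xb := (MulAut.conjNormal (H := Xb)).comp (π.comp (inclusion hHT))
  have hρ : ∀ (h : H) (k : Xb), ((ρ h k : Xb) : T ⧸ Y.subgroupOf T)
      = π (inclusion hHT h) * k * (π (inclusion hHT h))⁻¹ := fun h k =>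
    MulAut.conjNormal_apply _ _
  have hfp : ∀ h : H, (orderOf h).Prime → ∀ k : Xb, ρ h k = k → k = 1 := by
    rintro h hh ⟨_, t, ht, rfl⟩ hk
    have h1 := congrArg Subtype.val hk
    rw [hρ] at h1
    change π (inclusion hHT h) * π t * (π (inclusion hHT h))⁻¹ = π t at h1
    rw [← map_inv, ← map_mul, ← map_mul] at h1
    have h2 : t⁻¹ * (inclusion hHT h * t * (inclusion hHT h)⁻¹) ∈ Y.subgroupOf T :=
      QuotientGroup.eq.1 h1.symm
    rw [mem_subgroupOf] at h2
    rw [SetLike.mem_coe, mem_subgroupOf] at ht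
    have h3 : (t : G) ∈ Y := hfpf h h.2 (by rwa [Subgroup.orderOf_coe]) t ht h2
    apply Subtype.ext
    change π t = 1
    exact (QuotientGroup.eq_one_iff t).2 (mem_subgroupOf.2 h3)
  have hfp' : ∀ h : H, h ≠ 1 → ∀ k : Xb, ρ h k = k → k = 1 := by
    intro h hh k hk
    have ho : orderOf h ≠ 1 := by rwa [Ne, orderOf_eq_one_iff]
    have hp := Nat.minFac_prime ho
    have h1 : orderOf (h ^ (orderOf h / (orderOf h).minFac)) = (orderOf h).minFac :=
      orderOf_pow_orderOf_div (orderOf_pos h).ne' (Nat.minFac_dvd _)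
    apply hfp _ (by rw [h1]; exact hp) k
    have h2 : ρ h ∈ MulAction.stabilizer (MulAut Xb) k := hk
    have h3 := pow_mem h2 (orderOf h / (orderOf h).minFac)
    rw [← map_pow] at h3
    exact h3
  obtain ⟨x, hxX, hxY⟩ := SetLike.not_le_iff_exists.1 hne
  have hinj : Function.Injective ρ := by
    rw [injective_iff_map_eq_one]
    intro h hh
    by_contra h1
    have h2 := hfp' h h1 ⟨π ⟨x, hXT hxX⟩, ⟨x, hXT hxX⟩, mem_subgroupOf.2 hxX, rfl⟩
      (by rw [hh]; rfl)
    have h3 : π ⟨x, hXT hxX⟩ = 1 := congrArg Subtype.val h2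
    exact hxY (mem_subgroupOf.1 ((QuotientGroup.eq_one_iff _).1 h3))
  by_contra hsol
  obtain ⟨S, -, hS1, hS⟩ := Cfsg.Agent.Lib.Helper32.FrobSL25.exists_perfect_normal hsol
  let e := S.equivMapOfInjective ρ hinj
  obtain ⟨e'⟩ := hZ Xb (S.map ρ) (by
      rintro _ ⟨g, -, rfl⟩ hg k hk
      exact hfp' g (by rintro rfl; exact hg (map_one ρ)) k hk)
    (Cfsg.Agent.Lib.Helper32.FrobSL25.commutator_eq_top_of_equiv e
      (Cfsg.Agent.Lib.Helper32.FrobSL25.commutator_subtype_eq_top hS))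
    (by rwa [Ne, map_eq_bot_iff_of_injective _ hinj])
  exact hno (S.map H.subtype) (map_subtype_le S)
    ⟨((S.equivMapOfInjective H.subtype H.subtype_injective).symm.trans e).trans e'⟩


end Cfsg.Agent.Lib.Helper55.TISolv
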