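import Mathlib
import Cfsg.Agent.Lib.Helper55.TIHall
import Cfsg.Agent.Lib.Helper55.TISolvA
import Cfsg.Agent.Lib.Helper22.CoprimeP
import Cfsg.Agent.Lib.Helper11.Basic2
import Cfsg.Agent.Lib.Helper1.Fitting
import Cfsg.Agent.S0044

set_option autoImplicit false
set_option linter.style.haveILetI false

/-!
# Solvability of `π`-separable groups with a TI Hall subgroup (S4118), modulo Zassenhaus (S0690)
-/

namespace Cfsg.Agent.Lib.Helper55.TISolv

open Cfsg Subgroup Cfsg.Agent.Lib.Helper55.TIHall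
open scoped commutatorElement

universe u


theorem coset_stab {G : Type*} [Group G] (Y : Subgroup G) (x h : G)
    (hh : h ∈ normalizer (Y : Set G)) (hx : x⁻¹ * (h * x * h⁻¹) ∈ Y) :
    ∀ a ∈ zpowers h, x⁻¹ * (a * x * a⁻¹) ∈ Y := by
  let St : Subgroup G :=
    { carrier := {a | a ∈ normalizer (Y : Set G) ∧ x⁻¹ * (a * x * a⁻¹) ∈ Y}
      one_mem' := ⟨one_mem _, by simp⟩
      mul_mem' := by
        rintro a b ⟨ha, ha'⟩ ⟨hb, hb'⟩
        refine ⟨mul_mem ha hb, ?_⟩
        have h1 : x⁻¹ * (a * b * x * (a * b)⁻¹)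
            = x⁻¹ * (a * x * a⁻¹) * (a * (x⁻¹ * (b * x * b⁻¹)) * a⁻¹) := by group
        rw [h1]
        exact mul_mem ha' ((mem_normalizer_iff.1 ha _).1 hb')
      inv_mem' := by
        rintro a ⟨ha, ha'⟩
        refine ⟨inv_mem ha, ?_⟩
        have h1 : x⁻¹ * (a⁻¹ * x * a⁻¹⁻¹) = a⁻¹ * (x⁻¹ * (a * x * a⁻¹))⁻¹ * a⁻¹⁻¹ := by group
        rw [h1]
        exact (mem_normalizer_iff.1 (inv_mem ha) _).1 (inv_mem ha') }
  have h1 : zpowers h ≤ St := by
    rw [zpowers_le]
    exact ⟨hh, hx⟩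
  intro a ha
  exact (h1 ha).2

theorem commutator_self_le {G : Type*} [Group G] (X : Subgroup G) : ⁅X, X⁆ ≤ X := by
  rw [commutator_le]
  intro a ha b hb
  rw [commutatorElement_def]
  exact mul_mem (mul_mem (mul_mem ha hb) (inv_mem ha)) (inv_mem hb)

theorem le_normalizer_commutator_self {G : Type*} [Group G] [Finite G] {H X : Subgroup G}
    (h : H ≤ normalizer (X : Set G)) : H ≤ normalizer ((⁅X, X⁆ : Subgroup G) : Set G) := by
  intro g hg
  apply Cfsg.Agent.Lib.Helper11.mem_normalizer_of_conj_mem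
  have h1 : ⁅X, X⁆ ≤ (⁅X, X⁆ : Subgroup G).comap (MulAut.conj g).toMonoidHom := by
    rw [commutator_le]
    intro a ha b hb
    rw [mem_comap, map_commutatorElement]
    exact commutator_mem_commutator ((mem_normalizer_iff.1 (h hg) a).1 ha)
      ((mem_normalizer_iff.1 (h hg) b).1 hb)
  intro a ha
  exact h1 ha

variable {G : Type u} [Group G] [Finite G]

theorem core_not_le_centralizer {H : Subgroup G} (hTI : IsTISubset (H : Set G))
    (hnn : ¬ H.Normal)
    (hHall : (Nat.card H).Coprime (H.subgroupOf (normalizer (H : Set G))).index)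
    (hsep : ∃ (n : ℕ) (M : Fin (n + 1) → Subgroup G), M 0 = ⊥ ∧ M (Fin.last n) = ⊤ ∧ Monotone M ∧
      (∀ i, (M i).Normal) ∧
      ∀ i : Fin n, (∀ q : ℕ, q.Prime → q ∣ (M i.castSucc).relIndex (M i.succ) → q ∣ Nat.card H) ∨
        ((M i.castSucc).relIndex (M i.succ)).Coprime (Nat.card H)) :
    ¬ pPrimeCore (Nat.card H) G ≤ centralizer (H : Set G) := by
  intro hle
  have htop := core_sup_normalizer hTI hnn hHall hsep
  have h1 : centralizer (H : Set G) ≤ normalizer (H : Set G) := centralizer_le_normalizer _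
  rw [sup_of_le_right (hle.trans h1)] at htop
  exact hnn (normalizer_eq_top_iff.1 htop)

theorem isSolvable_H (hZ : Zass.{u}) {H : Subgroup G} (hTI : IsTISubset (H : Set G))
    (hnn : ¬ H.Normal)
    (hHall : (Nat.card H).Coprime (H.subgroupOf (normalizer (H : Set G))).index)
    (hsep : ∃ (n : ℕ) (M : Fin (n + 1) → Subgroup G), M 0 = ⊥ ∧ M (Fin.last n) = ⊤ ∧ Monotone M ∧
      (∀ i, (M i).Normal) ∧
      ∀ i : Fin n, (∀ q : ℕ, q.Prime → q ∣ (M i.castSucc).relIndex (M i.succ) → q ∣ Nat.card H) ∨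
        ((M i.castSucc).relIndex (M i.succ)).Coprime (Nat.card H))
    (hOs : Group.IsSolvable (pPrimeCore (Nat.card H) G))
    (hno : ∀ K : Subgroup G, K ≤ H →
      ¬ Nonempty (K ≃* Matrix.SpecialLinearGroup (Fin 2) (ZMod 5))) :
    Group.IsSolvable H := by
  classical
  set O := pPrimeCore (Nat.card H) G with hOdef
  haveI hOn : O.Normal := (Cfsg.Agent.Lib.Lead.pPrimeCore_mem (G := G) (Nat.card H)).1
  have hOc : (Nat.card O).Coprime (Nat.card H) :=
    (Cfsg.Agent.Lib.Lead.pPrimeCore_mem (G := G) (Nat.card H)).2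
  let 𝒳 : Set (Subgroup G) :=
    {X | X ≤ O ∧ H ≤ normalizer (X : Set G) ∧ ¬ X ≤ centralizer (H : Set G)}
  have hO𝒳 : O ∈ 𝒳 := ⟨le_rfl, by rw [normalizer_eq_top]; exact le_top,
    core_not_le_centralizer hTI hnn hHall hsep⟩
  obtain ⟨X, ⟨hXO, hHX, hXC⟩, hmin⟩ := WellFounded.has_min
    (InvImage.wf (fun X : Subgroup G => Nat.card X) Nat.lt_wfRel.wf) 𝒳 ⟨O, hO𝒳⟩
  have hXs : Group.IsSolvable X :=
    Group.isSolvable_of_isSolvable_injective (f := inclusion hXO) (inclusion_injective hXO)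
  have hX'lt : Nat.card (⁅X, X⁆ : Subgroup G) < Nat.card X := by
    have hle : ⁅X, X⁆ ≤ X := commutator_self_le X
    rcases (Nat.le_of_dvd Nat.card_pos (card_dvd_of_le hle)).lt_or_eq with h | h
    · exact h
    · exfalso
      have h1 : ⁅X, X⁆ = X := eq_of_le_of_card_ge hle h.ge
      have h2 := eq_bot_of_perfect_of_isSolvable h1 hXs
      exact hXC (by rw [h2]; exact bot_le)
  have hX'C : ⁅X, X⁆ ≤ centralizer (H : Set G) := by
    by_contra hcon
    exact hmin ⁅X, X⁆ ⟨(commutator_self_le X).trans hXO, le_normalizer_commutator_self hHX, hcon⟩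
      hX'lt
  set Y : Subgroup G := X ⊓ centralizer (H : Set G) with hY
  have hYX : Y ≤ X := inf_le_left
  have hHY : H ≤ normalizer (Y : Set G) := by
    intro h hh
    apply Cfsg.Agent.Lib.Helper11.mem_normalizer_of_conj_mem
    intro y hy
    have h1 : h * y = y * h := mem_centralizer_iff.1 (mem_inf.1 hy).2 h hh
    rw [h1, mul_inv_cancel_right]
    exact hy
  have hXY : X ≤ normalizer (Y : Set G) := by
    intro x hx
    apply Cfsg.Agent.Lib.Helper11.mem_normalizer_of_conj_mem
    intro y hy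
    refine mem_inf.2 ⟨mul_mem (mul_mem hx (hYX hy)) (inv_mem hx), ?_⟩
    have h1 : x * y * x⁻¹ = ⁅x, y⁆ * y := by rw [commutatorElement_def]; group
    rw [h1]
    exact mul_mem (hX'C (commutator_mem_commutator hx (hYX hy))) (mem_inf.1 hy).2
  have hne : ¬ X ≤ Y := fun h => hXC (h.trans inf_le_right)
  apply solvable_of_fpf_section hZ H X Y hHX hHY hYX hXY hne ?_ hno
  intro h hh hp x hx hxy
  haveI : Fact (orderOf h).Prime := ⟨hp⟩
  have hh1 : h ≠ 1 := by
    rintro rfl
    rw [orderOf_one] at hp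
    exact Nat.not_prime_one hp
  have hpH : orderOf h ∣ Nat.card H := by
    have := orderOf_dvd_natCard (⟨h, hh⟩ : H)
    rwa [Subgroup.orderOf_mk] at this
  have hpY : ¬ orderOf h ∣ Nat.card Y := by
    intro hd
    have h1 : orderOf h ∣ Nat.gcd (Nat.card O) (Nat.card H) :=
      Nat.dvd_gcd (hd.trans (card_dvd_of_le (hYX.trans hXO))) hpH
    rw [hOc] at h1
    exact hp.one_lt.ne' (Nat.dvd_one.1 h1)
  obtain ⟨n, hn, hc⟩ := Cfsg.Agent.Lib.Helper22.exists_fixed_in_coset (p := orderOf h) (zpowers h) Y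
    (IsPGroup.of_card (n := 1) (by rw [Nat.card_zpowers, pow_one])) hpY
    (by rw [zpowers_le]; exact hHY hh) x (coset_stab Y x h (hHY hh) hxy)
  have h1 : x * n ∈ O ⊓ centralizer {h} := by
    refine mem_inf.2 ⟨hXO (mul_mem hx (hYX hn)), ?_⟩
    rw [mem_centralizer_singleton_iff]
    exact (mem_centralizer_iff.1 hc h (mem_zpowers h)).symm
  have h2 := core_inf_centralizer_le hTI hh hh1 h1
  have h3 : x * n ∈ Y := mem_inf.2 ⟨mul_mem hx (hYX hn), h2⟩
  have h4 : x = x * n * n⁻¹ := by group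
  rw [h4]
  exact mul_mem h3 (inv_mem hn)



/-- characteristic subgroups of `H` are normalized by `N_G(H)` -/
theorem normalizer_le_normalizer_map_char {G : Type*} [Group G] [Finite G] (H : Subgroup G)
    (K : Subgroup H) [hK : K.Characteristic] :
    normalizer (H : Set G) ≤ normalizer ((K.map H.subtype : Subgroup G) : Set G) := by
  intro n hn
  apply Cfsg.Agent.Lib.Helper11.mem_normalizer_of_conj_mem
  rintro _ ⟨x, hx, rfl⟩
  have h1 : K ≤ K.comap (H.normalizerMonoidHom ⟨n, hn⟩).toMonoidHom :=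
    (characteristic_iff_le_comap.1 hK _)
  exact ⟨_, h1 hx, rfl⟩

/-- a complement of `H` in its normalizer -/
theorem exists_complement {G : Type*} [Group G] [Finite G] (H : Subgroup G)
    (hHall : (Nat.card H).Coprime (H.subgroupOf (normalizer (H : Set G))).index) :
    ∃ Q : Subgroup G, Q ≤ normalizer (H : Set G) ∧ H ⊔ Q = normalizer (H : Set G) ∧
      (Nat.card Q).Coprime (Nat.card H) := by
  haveI : (H.subgroupOf (normalizer (H : Set G))).Normal := Subgroup.normal_in_normalizer
  have hc : Nat.card (H.subgroupOf (normalizer (H : Set G))) = Nat.card H :=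
    Cfsg.Agent.Lib.Helper1.card_subgroupOf le_normalizer
  obtain ⟨Q', hQ'⟩ := exists_right_complement'_of_coprime
    (N := H.subgroupOf (normalizer (H : Set G))) (by rw [hc]; exact hHall)
  refine ⟨Q'.map (normalizer (H : Set G)).subtype, map_subtype_le _, ?_, ?_⟩
  · have h1 := congrArg (Subgroup.map (normalizer (H : Set G)).subtype) hQ'.sup_eq_top
    rw [Subgroup.map_sup, ← MonoidHom.range_eq_map, range_subtype, subgroupOf_map_subtype,
      inf_of_le_left le_normalizer] at h1
    exact h1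
  · rw [card_map_of_injective (subtype_injective _)]
    have h1 := hQ'.card_mul_card
    have h2 := card_mul_index (H.subgroupOf (normalizer (H : Set G)))
    rw [← h2] at h1
    have h3 : Nat.card Q' = (H.subgroupOf (normalizer (H : Set G))).index :=
      Nat.eq_of_mul_eq_mul_left Nat.card_pos h1
    rw [h3]
    exact hHall.symm


theorem isSolvable_mulAut_pCore {H : Subgroup G} (hTI : IsTISubset (H : Set G))
    (hnn : ¬ H.Normal)
    (hHall : (Nat.card H).Coprime (H.subgroupOf (normalizer (H : Set G))).index)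
    (hsep : ∃ (n : ℕ) (M : Fin (n + 1) → Subgroup G), M 0 = ⊥ ∧ M (Fin.last n) = ⊤ ∧ Monotone M ∧
      (∀ i, (M i).Normal) ∧
      ∀ i : Fin n, (∀ q : ℕ, q.Prime → q ∣ (M i.castSucc).relIndex (M i.succ) → q ∣ Nat.card H) ∨
        ((M i.castSucc).relIndex (M i.succ)).Coprime (Nat.card H))
    (p : ℕ) [Fact p.Prime] :
    Group.IsSolvable (MulAut ((pCore p H).map H.subtype : Subgroup G)) := by
  set S : Subgroup G := (pCore p H).map H.subtype with hS
  have hSH : S ≤ H := map_subtype_le _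
  have hSp : IsPGroup p S := (Cfsg.Agent.Lib.Helper1.pCore_isPGroup p).map _
  rcases cyclic_or_quat_of_abelian_cyclic (P := S) p hSp (by
    intro E hE
    have h1 : IsCyclic (E.map S.subtype : Subgroup G) := by
      apply isCyclic_of_abelian_le hTI hnn hHall hsep _ ((map_subtype_le _).trans hSH)
      rintro _ ⟨x, hx, rfl⟩ _ ⟨y, hy, rfl⟩
      have := mul_comm' (⟨x, hx⟩ : E) ⟨y, hy⟩
      have h2 : x * y = y * x := congrArg Subtype.val this
      exact congrArg Subtype.val h2
    let e1 := E.equivMapOfInjective S.subtype (Subgroup.subtype_injective _)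
    exact isCyclic_of_injective e1.toMonoidHom e1.injective) with h | ⟨-, n, ⟨e⟩⟩
  · exact isSolvable_mulAut_of_isCyclic h
  · exact isSolvable_mulAut_congr e (isSolvable_mulAut_quaternion (2 ^ n))

theorem isSolvable_normalizer {H : Subgroup G} (hTI : IsTISubset (H : Set G))
    (hnn : ¬ H.Normal)
    (hHall : (Nat.card H).Coprime (H.subgroupOf (normalizer (H : Set G))).index)
    (hsep : ∃ (n : ℕ) (M : Fin (n + 1) → Subgroup G), M 0 = ⊥ ∧ M (Fin.last n) = ⊤ ∧ Monotone M ∧
      (∀ i, (M i).Normal) ∧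
      ∀ i : Fin n, (∀ q : ℕ, q.Prime → q ∣ (M i.castSucc).relIndex (M i.succ) → q ∣ Nat.card H) ∨
        ((M i.castSucc).relIndex (M i.succ)).Coprime (Nat.card H))
    (hOs : Group.IsSolvable (pPrimeCore (Nat.card H) G)) (hHs : Group.IsSolvable H) :
    Group.IsSolvable (normalizer (H : Set G)) := by
  classical
  set O := pPrimeCore (Nat.card H) G with hOdef
  haveI hOn : O.Normal := (Cfsg.Agent.Lib.Lead.pPrimeCore_mem (G := G) (Nat.card H)).1
  have hOc : (Nat.card O).Coprime (Nat.card H) :=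
    (Cfsg.Agent.Lib.Lead.pPrimeCore_mem (G := G) (Nat.card H)).2
  have htop := core_sup_normalizer hTI hnn hHall hsep
  obtain ⟨Q, hQN, hHQ, hQc⟩ := exists_complement H hHall
  rw [← hHQ]
  apply Cfsg.Agent.Lib.Helper22.isSolvable_sup hQN hHs
  by_contra hQs
  obtain ⟨S, hSn, hS1, hS⟩ := Cfsg.Agent.Lib.Helper32.FrobSL25.exists_perfect_normal hQs
  set L : Subgroup G := S.map Q.subtype with hL
  have hLQ : L ≤ Q := map_subtype_le _
  have hLperf : ⁅L, L⁆ = L := by
    rw [hL, ← map_commutator, hS]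
  have hL1 : L ≠ ⊥ := by
    rwa [hL, Ne, map_eq_bot_iff_of_injective _ (subtype_injective _)]
  have hQL : Q ≤ normalizer (L : Set G) := by
    intro q hq
    apply Cfsg.Agent.Lib.Helper11.mem_normalizer_of_conj_mem
    rintro _ ⟨s, hs, rfl⟩
    exact ⟨_, hSn.conj_mem s hs ⟨q, hq⟩, rfl⟩
  -- `L` centralizes `F(H)`
  set F : Subgroup G := (fittingSubgroup H).map H.subtype with hF
  have hFH : F ≤ H := map_subtype_le _
  have hLF : F ≤ centralizer (L : Set G) := by
    rw [hF, Cfsg.Agent.Lib.Helper1.fittingSubgroup_eq_iSup_pCore, Subgroup.map_iSup]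
    refine iSup_le fun p => ?_
    haveI : Fact (p : ℕ).Prime := ⟨p.2⟩
    rw [le_centralizer_iff]
    exact perfect_le_centralizer
      ((hLQ.trans hQN).trans (normalizer_le_normalizer_map_char H (pCore (p : ℕ) H))) hLperf
      (isSolvable_mulAut_pCore hTI hnn hHall hsep p)
  have hFL : ⁅F, L⁆ = ⊥ := by
    rw [commutator_eq_bot_iff_le_centralizer]; exact hLF
  have hHF : H ≤ normalizer (F : Set G) :=
    le_normalizer.trans (normalizer_le_normalizer_map_char H (fittingSubgroup H))
  have hCF : H ⊓ centralizer (F : Set G) ≤ F := by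
    intro x hx
    obtain ⟨hxH, hxC⟩ := mem_inf.1 hx
    have h1 : (⟨x, hxH⟩ : H) ∈ centralizer (fittingSubgroup H : Set H) := by
      rw [mem_centralizer_iff]
      intro y hy
      apply Subtype.ext
      exact mem_centralizer_iff.1 hxC y ⟨y, hy, rfl⟩
    exact ⟨_, Cfsg.Agent.S0044.result h1, rfl⟩
  have hHL_H : ⁅H, L⁆ ≤ H := by
    rw [commutator_le]
    intro h hh l hl
    rw [commutatorElement_def, mul_assoc, mul_assoc]
    refine mul_mem hh ?_
    rw [← mul_assoc]
    exact (mem_normalizer_iff.1 (hQN (hLQ hl)) _).1 (inv_mem hh)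
  have hFHF : ⁅F, H⁆ ≤ F := by
    rw [commutator_le]
    intro f hf h hh
    rw [commutatorElement_def, mul_assoc, mul_assoc]
    refine mul_mem hf ?_
    rw [← mul_assoc]
    exact (mem_normalizer_iff.1 (hHF hh) _).1 (inv_mem hf)
  have h1 : ⁅⁅H, L⁆, F⁆ = ⊥ := by
    apply commutator_commutator_eq_bot_of_rotate
    · rw [commutator_comm L F, hFL]
      exact commutator_bot_left H
    · rw [eq_bot_iff, ← hFL]
      exact commutator_mono hFHF le_rfl
  have h2 : ⁅H, L⁆ ≤ F := by
    apply le_trans _ hCF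
    refine le_inf hHL_H ?_
    rwa [commutator_eq_bot_iff_le_centralizer] at h1
  have h3 : ⁅⁅H, L⁆, L⁆ = ⊥ := by
    rw [eq_bot_iff, ← hFL]
    exact commutator_mono h2 le_rfl
  have h4 : ⁅⁅L, L⁆, H⁆ = ⊥ := by
    apply commutator_commutator_eq_bot_of_rotate
    · rw [commutator_comm L H]; exact h3
    · exact h3
  rw [hLperf, commutator_eq_bot_iff_le_centralizer] at h4
  -- `O ⊔ L` is a normal subgroup of order prime to `|H|`
  have hHL : H ≤ normalizer (L : Set G) := by
    intro h hh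
    apply Cfsg.Agent.Lib.Helper11.mem_normalizer_of_conj_mem
    intro l hl
    have h5 : h * l = l * h := mem_centralizer_iff.1 (h4 hl) h hh
    rw [h5, mul_inv_cancel_right]
    exact hl
  have hNL : normalizer (H : Set G) ≤ normalizer (L : Set G) := by
    rw [← hHQ]; exact sup_le hHL hQL
  have hnorm : (O ⊔ L).Normal := by
    rw [← normalizer_eq_top_iff, eq_top_iff, ← htop]
    refine sup_le (le_sup_left.trans le_normalizer) ?_
    intro n hn
    apply Cfsg.Agent.Lib.Helper11.mem_normalizer_of_conj_mem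
    have h6 : O ⊔ L ≤ (O ⊔ L).comap (MulAut.conj n).toMonoidHom := by
      refine sup_le ?_ ?_
      · intro x hx
        exact le_sup_left (a := O) (b := L) (hOn.conj_mem x hx n)
      · intro x hx
        exact le_sup_right (a := O) (b := L) ((mem_normalizer_iff.1 (hNL hn) x).1 hx)
    intro a ha
    exact h6 ha
  have hcop : (Nat.card (O ⊔ L : Subgroup G)).Coprime (Nat.card H) := by
    apply Nat.Coprime.of_dvd_left
      (Cfsg.Agent.Lib.Helper22.card_sup_dvd (X := O) (Y := L) (by rw [normalizer_eq_top]; exact le_top))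
    exact Nat.Coprime.mul_left hOc (Nat.Coprime.of_dvd_left (card_dvd_of_le hLQ) hQc)
  have hLO : L ≤ O := le_sup_right.trans (Cfsg.Agent.Lib.Lead.le_pPrimeCore hnorm hcop)
  exact hL1 (eq_bot_of_perfect_of_isSolvable hLperf
    (Group.isSolvable_of_isSolvable_injective (f := inclusion hLO) (inclusion_injective hLO)))


theorem not_isSolvable_SL25 :
    ¬ Group.IsSolvable (Matrix.SpecialLinearGroup (Fin 2) (ZMod 5)) := by
  intro hs
  have h := map_eq_bot_of_perfect Cfsg.Agent.Lib.Helper32.AutSL25.commutator_SL25 hs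
    (MonoidHom.id _) ⟨!![1, 1; 0, 1], by simp [Matrix.det_fin_two]⟩
  have h1 := congrArg (fun M : Matrix.SpecialLinearGroup (Fin 2) (ZMod 5) => M.1 0 1) h
  have h2 : (1 : ZMod 5) = 0 := h1
  exact absurd h2 (by decide)

theorem main (hZ : Zass.{u}) (H : Subgroup G)
    (hTI : Cfsg.IsTISubset (H : Set G)) (hnn : ¬ H.Normal)
    (hHall : (Nat.card H).Coprime (H.subgroupOf (Subgroup.normalizer (H : Set G))).index)
    (hsep : ∃ (n : ℕ) (M : Fin (n + 1) → Subgroup G), M 0 = ⊥ ∧ M (Fin.last n) = ⊤ ∧ Monotone M ∧ (∀ i, (M i).Normal) ∧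
      ∀ i : Fin n, (∀ q : ℕ, q.Prime → q ∣ (M i.castSucc).relIndex (M i.succ) → q ∣ Nat.card H) ∨
        ((M i.castSucc).relIndex (M i.succ)).Coprime (Nat.card H))
    (O : Subgroup G) (hO : O = sSup {K : Subgroup G | K.Normal ∧ (Nat.card K).Coprime (Nat.card H)}) :
    O ⊔ Subgroup.normalizer (H : Set G) = ⊤ ∧ (O ⊔ H).Normal ∧
    (Group.IsSolvable G ↔ Group.IsSolvable O ∧
      ∀ K : Subgroup G, K ≤ H → ¬ Nonempty (K ≃* Matrix.SpecialLinearGroup (Fin 2) (ZMod 5))) := by
  have hO' : O = pPrimeCore (Nat.card H) G := hO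
  have hOn : O.Normal := by
    rw [hO']; exact (Cfsg.Agent.Lib.Lead.pPrimeCore_mem (G := G) (Nat.card H)).1
  have htop : O ⊔ normalizer (H : Set G) = ⊤ := by
    rw [hO']; exact core_sup_normalizer hTI hnn hHall hsep
  refine ⟨htop, ?_, ?_, ?_⟩
  · rw [← normalizer_eq_top_iff, eq_top_iff, ← htop]
    refine sup_le (le_sup_left.trans le_normalizer) ?_
    intro n hn
    apply Cfsg.Agent.Lib.Helper11.mem_normalizer_of_conj_mem
    have h6 : O ⊔ H ≤ (O ⊔ H).comap (MulAut.conj n).toMonoidHom := by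
      refine sup_le ?_ ?_
      · intro x hx
        exact le_sup_left (a := O) (b := H) (hOn.conj_mem x hx n)
      · intro x hx
        exact le_sup_right (a := O) (b := H) ((mem_normalizer_iff.1 hn x).1 hx)
    intro a ha
    exact h6 ha
  · intro hG
    refine ⟨inferInstance, ?_⟩
    rintro K - ⟨e⟩
    exact not_isSolvable_SL25
      (Group.isSolvable_of_isSolvable_injective (f := e.symm.toMonoidHom) e.symm.injective)
  · rintro ⟨hOs, hno⟩
    rw [hO'] at hOs
    have hHs := isSolvable_H hZ hTI hnn hHall hsep hOs hno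
    have hNs := isSolvable_normalizer hTI hnn hHall hsep hOs hHs
    have h1 : Group.IsSolvable (O ⊔ normalizer (H : Set G) : Subgroup G) := by
      apply Cfsg.Agent.Lib.Helper22.isSolvable_sup _ (by rw [hO']; exact hOs) hNs
      rw [normalizer_eq_top_iff.2 hOn]; exact le_top
    rw [htop] at h1
    exact Group.isSolvable_of_isSolvable_injective (f := (Subgroup.topEquiv (G := G)).symm.toMonoidHom)
      (Subgroup.topEquiv (G := G)).symm.injective

end Cfsg.Agent.Lib.Helper55.TISolv
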